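import Cfsg.Agent.Lib.Perm.NoFixConj.Main
import Cfsg.Agent.Lib.Perm.Subnormalizer
import Mathlib.GroupTheory.Solvable

/-!
A `p`-subgroup of a solvable group, `p` odd, subnormal in the join with a conjugate by some element of
every class, lies in the `p`-core.
-/

set_option autoImplicit false
set_option linter.style.haveILetI false
set_option linter.unusedSectionVars false

open scoped commutatorElement

namespace Cfsg.Agent.Perm.NoFixConj

universe u

/-- Every class has an element `g` such that a `p`-group over `A` is normalised by `gAg⁻¹`. -/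
def Hyp {G : Type u} [Group G] (p : ℕ) (A : Subgroup G) : Prop :=
  ∀ c : G, ∃ g : G, IsConj c g ∧ ∃ R : Subgroup G, IsPGroup p R ∧ A ≤ R ∧
    ∀ a ∈ A, ∀ r ∈ R, (g * a * g⁻¹) * r * (g * a * g⁻¹)⁻¹ ∈ R

theorem exists_abelian_normal_ne_bot {G : Type u} [Group G] [Nontrivial G] (hG : Group.IsSolvable G) :
    ∃ N : Subgroup G, N.Normal ∧ N ≠ ⊥ ∧ ∀ x ∈ N, ∀ y ∈ N, Commute x y := by
  classical
  haveI := hG
  have h : ∃ n, derivedSeries G n = ⊥ := (Group.isSolvable_def G).1 inferInstance
  have h0 : Nat.find h ≠ 0 := fun h0 => by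
    have h1 := Nat.find_spec h
    rw [h0, derivedSeries_zero] at h1
    exact top_ne_bot h1
  obtain ⟨k, hk⟩ := Nat.exists_eq_succ_of_ne_zero h0
  refine ⟨derivedSeries G k, inferInstance, Nat.find_min h (by omega), fun x hx y hy => ?_⟩
  have h1 := Nat.find_spec h
  rw [hk, derivedSeries_succ, Subgroup.commutator_eq_bot_iff_le_centralizer] at h1
  exact (Subgroup.mem_centralizer_iff.1 (h1 hx) y hy).symm

theorem le_pCore_aux {p : ℕ} [hp : Fact p.Prime] (hp2 : p ≠ 2) : ∀ (n : ℕ) (G : Type u) [Group G] [Finite G],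
    Nat.card G ≤ n → Group.IsSolvable G → ∀ A : Subgroup G, IsPGroup p A → Hyp p A → A ≤ Cfsg.pCore p G := by
  intro n
  induction n with
  | zero => intro G _ _ hn; have := Nat.card_pos (α := G); omega
  | succ n ih =>
    intro G _ _ hn hG A hA hyp
    haveI := hG
    -- passing to a quotient
    have down : ∀ (N : Subgroup G) [N.Normal], N ≠ ⊥ →
        A ≤ (Cfsg.pCore p (G ⧸ N)).comap (QuotientGroup.mk' N) := by
      intro N _ hN
      set π := QuotientGroup.mk' N
      have hlt : Nat.card (G ⧸ N) < Nat.card G := by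
        rw [Subgroup.card_eq_card_quotient_mul_card_subgroup N]
        exact lt_mul_of_one_lt_right Nat.card_pos ((Subgroup.one_lt_card_iff_ne_bot N).2 hN)
      refine Subgroup.map_le_iff_le_comap.1 (ih (G ⧸ N) (by omega) inferInstance _ (hA.map π) ?_)
      intro c
      obtain ⟨c, rfl⟩ := QuotientGroup.mk'_surjective N c
      obtain ⟨g, hg, R, hR, hAR, hn⟩ := hyp c
      refine ⟨π g, π.map_isConj hg, R.map π, hR.map π, Subgroup.map_mono hAR, ?_⟩
      rintro _ ⟨a, ha, rfl⟩ _ ⟨r, hr, rfl⟩
      exact ⟨_, hn a ha r hr, by simp⟩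
    by_cases hO : Cfsg.pCore p G = ⊥
    swap
    · refine (down (Cfsg.pCore p G) hO).trans ?_
      rw [Cfsg.Agent.Fusion.pCore_quotient_eq_bot, MonoidHom.comap_bot, QuotientGroup.ker_mk']
    rcases subsingleton_or_nontrivial G with hs | hnt
    · intro x _
      rw [Subsingleton.elim x 1]
      exact one_mem _
    obtain ⟨N, hNn, hN0, hNc⟩ := exists_abelian_normal_ne_bot hG
    -- the order of `N` is prime to `p`
    have hco : (Nat.card N).Coprime p := by
      rw [Nat.coprime_comm, hp.out.coprime_iff_not_dvd]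
      intro hd
      obtain ⟨⟨x, hx⟩, hxo⟩ := exists_prime_orderOf_dvd_card' p hd
      let T : Subgroup G :=
        { carrier := {y | y ∈ N ∧ y ^ p = 1}
          one_mem' := ⟨one_mem N, one_pow p⟩
          mul_mem' := fun {y w} hy hw => ⟨mul_mem hy.1 hw.1, by
            rw [(hNc y hy.1 w hw.1).mul_pow, hy.2, hw.2, one_mul]⟩
          inv_mem' := fun {y} hy => ⟨inv_mem hy.1, by rw [inv_pow, hy.2, inv_one]⟩ }
      haveI : T.Normal := ⟨fun y hy g => ⟨hNn.conj_mem y hy.1 g, by
        rw [conj_pow, hy.2, mul_one, mul_inv_cancel]⟩⟩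
      have hT : IsPGroup p T := fun y => ⟨1, Subtype.ext (by simpa using y.2.2)⟩
      rw [Subgroup.orderOf_mk] at hxo
      have h1 : x ∈ Cfsg.pCore p G := Cfsg.Agent.Fusion.le_pCore hT ⟨hx, hxo ▸ pow_orderOf_eq_one x⟩
      rw [hO, Subgroup.mem_bot] at h1
      rw [h1, orderOf_one] at hxo
      exact hp.out.ne_one hxo.symm
    have hnop : ∀ x ∈ N, ∀ k : ℕ, x ^ p ^ k = 1 → x = 1 := fun x hx k h => by
      rw [← orderOf_eq_one_iff]
      exact Nat.eq_one_of_dvd_coprimes (hco.pow_right k)
        ((Subgroup.orderOf_mk x hx).symm ▸ orderOf_dvd_natCard (⟨x, hx⟩ : N)) (orderOf_dvd_of_pow_eq_one h)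
    haveI := hNn
    set L := (Cfsg.pCore p (G ⧸ N)).comap (QuotientGroup.mk' N) with hL
    have hAL : A ≤ L := down N hN0
    haveI hLn : L.Normal := (inferInstance : (Cfsg.pCore p (G ⧸ N)).Normal).comap _
    have hLp : ∀ x ∈ L, ∃ k : ℕ, x ^ p ^ k ∈ N := fun x hx => by
      obtain ⟨k, hk⟩ := Cfsg.Agent.Fusion.isPGroup_pCore p (G ⧸ N) ⟨_, hx⟩
      exact ⟨k, (QuotientGroup.eq_one_iff _).1 (congrArg Subtype.val hk)⟩
    -- the conjugation action
    letI : AddCommGroup (Additive N) :=
      { (inferInstance : AddGroup (Additive N)) with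
        add_comm := fun x y => Subtype.ext (hNc _ (Additive.toMul x).2 _ (Additive.toMul y).2) }
    letI : DistribMulAction G (Additive N) :=
      { smul := fun g x => Additive.ofMul (MulAut.conjNormal g (Additive.toMul x))
        one_smul := fun x => by show Additive.ofMul (MulAut.conjNormal 1 (Additive.toMul x)) = x; rw [map_one]; rfl
        mul_smul := fun g h x => by
          show Additive.ofMul (MulAut.conjNormal (g * h) (Additive.toMul x)) = _
          rw [map_mul]; rfl
        smul_zero := fun g => by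
          show Additive.ofMul (MulAut.conjNormal g (1 : N)) = 0
          rw [map_one]; rfl
        smul_add := fun g x y => by
          show Additive.ofMul (MulAut.conjNormal g (Additive.toMul x * Additive.toMul y)) = _
          rw [map_mul]; rfl }
    have hfix : ∀ (g : G) (x : N), g • Additive.ofMul x = Additive.ofMul x ↔ g * (x : G) = (x : G) * g := by
      intro g x
      show Additive.ofMul (MulAut.conjNormal g x) = Additive.ofMul x ↔ _
      rw [Additive.ofMul.injective.eq_iff, Subtype.ext_iff, MulAut.conjNormal_apply, mul_inv_eq_iff_eq_mul]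
    have hLact : ∀ x ∈ L, ∃ k : ℕ, ∀ v : Additive N, x ^ p ^ k • v = v := fun x hx => by
      obtain ⟨k, hk⟩ := hLp x hx
      exact ⟨k, fun v => (hfix _ (Additive.toMul v)).2 (hNc _ hk _ (Additive.toMul v).2).eq⟩
    -- the centre of `L` contains `N`
    have hcent : ∀ a ∈ A, ∀ x : N, a * (x : G) = (x : G) * a := by
      intro a ha x
      refine (hfix a x).1 (smul_eq_of_all_fixed (p := p) hp2 ?_ L hLn hLact (hAL ha) (fun v => ?_) _)
      · rw [Nat.card_congr Additive.toMul]
        exact hco
      obtain ⟨g, hg, R, hR, hAR, hgR⟩ := hyp ((Additive.toMul v : N) : G)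
      obtain ⟨h, hh⟩ := isConj_iff.1 hg
      have hgN : g ∈ N := hh ▸ hNn.conj_mem _ (Additive.toMul v).2 h
      set d := a * (g * a⁻¹ * g⁻¹) with hd
      have hdN : d ∈ N := by
        rw [hd, show a * (g * a⁻¹ * g⁻¹) = (a * g * a⁻¹) * g⁻¹ by group]
        exact mul_mem (hNn.conj_mem g hgN a) (inv_mem hgN)
      have hdR : ⁅a, d⁆ ∈ R := by
        have h1 := hgR a⁻¹ (inv_mem ha) a⁻¹ (inv_mem (hAR ha))
        have h2 := mul_mem (mul_mem (hAR ha) (mul_mem (mul_mem (hAR ha) h1) (inv_mem (hAR ha)))) (one_mem R)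
        rw [mul_one] at h2
        convert h2 using 1
        rw [hd, commutatorElement_def]; group
      have hdN' : ⁅a, d⁆ ∈ N := by
        rw [commutatorElement_def]
        exact mul_mem (hNn.conj_mem d hdN a) (inv_mem hdN)
      have hd1 : ⁅a, d⁆ = 1 := by
        obtain ⟨k, hk⟩ := hR ⟨_, hdR⟩
        exact hnop _ hdN' k (congrArg Subtype.val hk)
      obtain ⟨k, hk⟩ := hA ⟨a, ha⟩
      have hcp := conj_pow_eq (v := a) (u := g) (c := d) (by rw [hd]; group)
        (commutatorElement_eq_one_iff_mul_comm.1 hd1) (p ^ k)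
      rw [show a ^ p ^ k = 1 from congrArg Subtype.val hk, one_mul, inv_one, mul_one] at hcp
      have hdone : d = 1 := hnop d hdN k (mul_eq_right.1 hcp.symm)
      have hag : a * g = g * a := by
        calc a * g = d * (g * a) := by rw [hd]; group
          _ = g * a := by rw [hdone, one_mul]
      refine ⟨h⁻¹, (hfix _ (Additive.toMul v)).2 ?_⟩
      calc h⁻¹ * a * h⁻¹⁻¹ * ((Additive.toMul v : N) : G) = h⁻¹ * (a * g) * h := by rw [← hh]; group
        _ = h⁻¹ * (g * a) * h := by rw [hag]
        _ = _ := by rw [← hh]; group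
    -- `N` is central in `Q`, so `Q` is nilpotent
    set Q := L ⊓ Subgroup.centralizer (N : Set G) with hQ
    haveI hQn : Q.Normal := inferInstance
    have hAQ : A ≤ Q := le_inf hAL fun a ha => Subgroup.mem_centralizer_iff.2 fun x hx => (hcent a ha ⟨x, hx⟩).symm
    haveI : Group.IsNilpotent Q := by
      set f : Q →* Cfsg.pCore p (G ⧸ N) :=
        ((QuotientGroup.mk' N).comp Q.subtype).codRestrict _ fun x => (Subgroup.mem_inf.1 x.2).1
      haveI := (Cfsg.Agent.Fusion.isPGroup_pCore p (G ⧸ N)).isNilpotent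
      haveI : Group.IsNilpotent f.range := inferInstance
      refine Subgroup.isNilpotent_of_ker_le_center f.rangeRestrict (fun x hx => Subgroup.mem_center_iff.2 fun y => ?_)
      rw [MonoidHom.ker_rangeRestrict] at hx
      have hxN : (x : G) ∈ N := (QuotientGroup.eq_one_iff _).1 (congrArg Subtype.val hx)
      exact Subtype.ext ((Subgroup.mem_centralizer_iff.1 (Subgroup.mem_inf.1 y.2).2 _ hxN).symm)
    -- the Sylow subgroup of `Q` is normal
    intro a ha
    have hAQp : IsPGroup p (A.subgroupOf Q) := hA.comap_of_injective Q.subtype Q.subtype_injective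
    have h1 : A.subgroupOf Q ≤ Cfsg.pCore p Q :=
      Cfsg.Agent.Perm.subnormal_pgroup_le_pCore (Cfsg.Agent.Solv.isSubnormal_of_isNilpotent _) hAQp
    haveI : (Cfsg.pCore p Q).Characteristic := by
      rw [Subgroup.characteristic_iff_map_le]
      exact fun e => Cfsg.Agent.Fusion.map_pCore_le e
    exact Cfsg.Agent.Fusion.le_pCore ((Cfsg.Agent.Fusion.isPGroup_pCore p Q).map Q.subtype)
      ⟨⟨a, hAQ ha⟩, h1 ha, rfl⟩

end Cfsg.Agent.Perm.NoFixConj
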