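import Mathlib.GroupTheory.PGroup
import Mathlib.GroupTheory.Nilpotent
import Mathlib.GroupTheory.QuotientGroup.Basic
import Mathlib.GroupTheory.GroupAction.Defs
import Mathlib.Data.Set.Card
import Mathlib.Order.Atoms.Finite

/-!
A group of odd order with nilpotent action has a subset with trivial setwise stabiliser.
-/

set_option autoImplicit false
set_option linter.style.haveILetI false
set_option linter.unusedSectionVars false

namespace Cfsg.Agent.Perm.NoFixConj

universe u v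

variable {P : Type u} [Group P] [Finite P] {α : Type v} [MulAction P α] [Finite α]

/-- An element flipping a subset of an invariant nonempty set is of even order. -/
theorem not_flip {K : Subgroup P} (hodd : Odd (Nat.card P)) {s B : Set α} (hs : s.Nonempty)
    (hinv : ∀ g ∈ K, ∀ x ∈ s, g • x ∈ s)
    (hB : ∀ g ∈ K, (∀ x ∈ s, (g • x ∈ B ↔ x ∈ B)) → ∀ x ∈ s, g • x = x)
    {h : P} (hh : h ∈ K) (hf : ∀ x ∈ s, (h • x ∈ B ↔ x ∉ B)) : False := by
  have h2 : ∀ x ∈ s, (h * h) • x = x := hB _ (mul_mem hh hh) fun x hx => by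
    rw [mul_smul, hf _ (hinv h hh x hx), hf x hx, not_not]
  obtain ⟨x, hx⟩ := hs
  have ho : Odd (orderOf h) := Odd.of_dvd_nat hodd (orderOf_dvd_natCard h)
  obtain ⟨i, hi⟩ := ho
  have hp : ∀ j : ℕ, ((h * h) ^ j) • x = x := fun j => by
    induction j with
    | zero => rw [pow_zero, one_smul]
    | succ j ih => rw [pow_succ, mul_smul, h2 x hx, ih]
  have hfix : h • x = x := by
    have h1 := pow_orderOf_eq_one h
    rw [hi, pow_succ, pow_mul, pow_two] at h1
    calc h • x = ((h * h) ^ i) • (h • x) := by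
          induction i generalizing x with
          | zero => rw [pow_zero, one_smul]
          | succ i _ =>
            have : ∀ j : ℕ, ((h * h) ^ j) • (h • x) = h • x := fun j => by
              induction j with
              | zero => rw [pow_zero, one_smul]
              | succ j ih => rw [pow_succ, mul_smul, h2 _ (hinv h hh x hx), ih]
            exact (this _).symm
      _ = x := by rw [← mul_smul, h1, one_smul]
  have := hf x hx
  rw [hfix] at this
  exact iff_not_self this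

theorem exists_subset (hodd : Odd (Nat.card P)) (hnil : Group.IsNilpotent P) :
    ∀ (N : ℕ) (K : Subgroup P) (s : Set α), s.ncard ≤ N → (∀ g ∈ K, ∀ x ∈ s, g • x ∈ s) →
      ∃ B : Set α, ∀ g ∈ K, (∀ x ∈ s, (g • x ∈ B ↔ x ∈ B)) → ∀ x ∈ s, g • x = x := by
  classical
  intro N
  induction N with
  | zero =>
    intro K s hs _
    refine ⟨∅, fun g _ _ x hx => absurd hx ?_⟩
    rw [(Set.ncard_eq_zero).1 (Nat.le_zero.1 hs)]
    exact Set.notMem_empty x
  | succ N ih =>
    intro K s hs hinv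
    rcases s.eq_empty_or_nonempty with rfl | ⟨x0, hx0⟩
    · exact ⟨∅, fun g _ _ x hx => absurd hx (Set.notMem_empty x)⟩
    have hinv' : ∀ g ∈ K, ∀ x : α, g • x ∈ s ↔ x ∈ s := fun g hg x =>
      ⟨fun h => by simpa using hinv g⁻¹ (inv_mem hg) _ h, hinv g hg x⟩
    by_cases htr : ∀ x ∈ s, ∃ g ∈ K, g • x0 = x
    swap
    · -- two invariant parts
      set O : Set α := {x | ∃ g ∈ K, g • x0 = x} with hO
      have hOs : O ⊆ s := fun x ⟨g, hg, e⟩ => e ▸ hinv g hg x0 hx0
      have hOi : ∀ g ∈ K, ∀ x, g • x ∈ O ↔ x ∈ O := fun g hg x =>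
        ⟨fun ⟨k, hk, e⟩ => ⟨g⁻¹ * k, mul_mem (inv_mem hg) hk, by rw [mul_smul, e, inv_smul_smul]⟩,
          fun ⟨k, hk, e⟩ => ⟨g * k, mul_mem hg hk, by rw [mul_smul, e]⟩⟩
      have h1 : O.ncard ≤ N := by
        have : O.ncard < s.ncard := Set.ncard_lt_ncard (hOs.ssubset_of_ne fun e => htr fun x hx => by
          have h5 : x ∈ O := e.symm ▸ hx
          exact h5)
        omega
      have h2 : (s \ O).ncard ≤ N := by
        have : (s \ O).ncard < s.ncard := Set.ncard_lt_ncard ⟨Set.diff_subset, fun h =>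
          (h hx0).2 ⟨1, one_mem K, one_smul P x0⟩⟩
        omega
      obtain ⟨B1, hB1⟩ := ih K O h1 fun g hg x hx => (hOi g hg x).2 hx
      obtain ⟨B2, hB2⟩ := ih K (s \ O) h2 fun g hg x hx => ⟨hinv g hg x hx.1, fun h => hx.2 ((hOi g hg x).1 h)⟩
      refine ⟨{x | (x ∈ O ∧ x ∈ B1) ∨ (x ∉ O ∧ x ∈ B2)}, fun g hg hgB x hx => ?_⟩
      by_cases hxO : x ∈ O
      · refine hB1 g hg (fun y hy => ?_) x hxO
        have := hgB y (hOs hy)
        simpa [hy, (hOi g hg y).2 hy] using this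
      · refine hB2 g hg (fun y hy => ?_) x ⟨hx, hxO⟩
        have := hgB y hy.1
        have hgy : g • y ∉ O := fun h => hy.2 ((hOi g hg y).1 h)
        simpa [hy.2, hgy] using this
    -- transitive
    by_cases hone : ∀ g ∈ K, g • x0 = x0
    · refine ⟨∅, fun g hg _ x hx => ?_⟩
      obtain ⟨k, hk, rfl⟩ := htr x hx
      rw [hone k hk, hone g hg]
    set St : Subgroup K := MulAction.stabilizer K x0 with hSt
    have hStne : St ≠ ⊤ := fun e => hone fun g hg => by
      have : (⟨g, hg⟩ : K) ∈ St := e.symm ▸ Subgroup.mem_top _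
      exact this
    obtain ⟨M, hM, hStM⟩ := (eq_top_or_exists_le_coatom St).resolve_left hStne
    haveI : Group.IsNilpotent K := inferInstance
    haveI hMn : M.Normal := Subgroup.NormalizerCondition.normal_of_coatom M
      Group.normalizerCondition_of_isNilpotent hM
    set K1 : Subgroup P := M.map K.subtype with hK1
    have hK1K : K1 ≤ K := Subgroup.map_subtype_le M
    set O0 : Set α := {x | ∃ g ∈ K1, g • x0 = x} with hO0
    have hO0s : O0 ⊆ s := fun x ⟨g, hg, e⟩ => e ▸ hinv g (hK1K hg) x0 hx0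
    have hO0i : ∀ g ∈ K1, ∀ x ∈ O0, g • x ∈ O0 := fun g hg x ⟨k, hk, e⟩ =>
      ⟨g * k, mul_mem hg hk, by rw [mul_smul, e]⟩
    have hmem : ∀ g : K, (g : P) • x0 ∈ O0 → g ∈ M := by
      rintro g ⟨k, ⟨m, hm, rfl⟩, e⟩
      have h1 : m⁻¹ * g ∈ St := by
        show ((m⁻¹ * g : K) : P) • x0 = x0
        rw [Subgroup.coe_mul, mul_smul, ← e, Subgroup.coe_inv]
        exact inv_smul_smul _ _
      have := mul_mem hm (hStM h1)
      rwa [mul_inv_cancel_left] at this
    obtain ⟨g0, hg0⟩ : ∃ g : K, g ∉ M := by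
      by_contra h
      push Not at h
      exact hM.1 (eq_top_iff.2 fun g _ => h g)
    have h1 : O0.ncard ≤ N := by
      have : O0.ncard < s.ncard := Set.ncard_lt_ncard ⟨hO0s, fun h =>
        hg0 (hmem g0 (h (hinv g0 g0.2 x0 hx0)))⟩
      omega
    obtain ⟨B0, hB0⟩ := ih K1 O0 h1 hO0i
    -- representatives
    let rep : K ⧸ M → K := fun C => if C = 1 then 1 else C.out
    have hrep : ∀ C : K ⧸ M, (rep C : K ⧸ M) = C := fun C => by
      show ((if C = 1 then (1 : K) else C.out : K) : K ⧸ M) = C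
      split
      · next e => rw [e]; rfl
      · exact QuotientGroup.out_eq' C
    let B : Set α := {x | ∃ C : K ⧸ M, ∃ y ∈ O0, (rep C : P) • y = x ∧ (C = 1 ↔ y ∈ B0)}
    have hBy : ∀ (C : K ⧸ M) (y : α), y ∈ O0 → ((rep C : P) • y ∈ B ↔ (C = 1 ↔ y ∈ B0)) := by
      intro C y hy
      refine ⟨?_, fun h => ⟨C, y, hy, rfl, h⟩⟩
      rintro ⟨D, z, hz, e, hD⟩
      have h5 : (rep D)⁻¹ * rep C ∈ M := by
        obtain ⟨k, ⟨m, hm, rfl⟩, hky⟩ := hy
        obtain ⟨l, ⟨m', hm', rfl⟩, hlz⟩ := hz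
        have h6 : m'⁻¹ * ((rep D)⁻¹ * rep C) * m ∈ M := by
          refine hmem _ ⟨1, one_mem _, ?_⟩
          rw [one_smul, Subgroup.coe_mul, Subgroup.coe_mul, Subgroup.coe_mul, Subgroup.coe_inv, Subgroup.coe_inv,
            mul_smul, mul_smul, mul_smul]
          change x0 = (m' : P)⁻¹ • (rep D : P)⁻¹ • (rep C : P) • (K.subtype m) • x0
          rw [hky, ← e, inv_smul_smul, ← hlz]
          exact (inv_smul_smul _ _).symm
        have := mul_mem (mul_mem hm' h6) (inv_mem hm)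
        rwa [mul_assoc, mul_assoc, mul_assoc, mul_inv_cancel, mul_one, mul_inv_cancel_left] at this
      have hDC : D = C := by
        rw [← hrep D, ← hrep C]; exact QuotientGroup.eq.2 h5
      subst hDC
      rwa [MulAction.injective (rep D : P) e] at hD
    refine ⟨B, fun g hg hgB => ?_⟩
    have hflip : ∀ h ∈ K1, (∀ x ∈ O0, (h • x ∈ B0 ↔ x ∉ B0)) → False := fun h hh hf =>
      not_flip (s := O0) (B := B0) hodd ⟨x0, 1, one_mem _, one_smul P x0⟩ hO0i hB0 hh hf
    -- the shift of a coset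
    set q : K ⧸ M := QuotientGroup.mk (⟨g, hg⟩ : K) with hq
    have hshift : ∀ C : K ⧸ M, ∀ y ∈ O0,
        ∃ h : K, h = (rep (q * C))⁻¹ * (⟨g, hg⟩ : K) * rep C ∧ (h : P) ∈ K1 ∧
          g • ((rep C : P) • y) = (rep (q * C) : P) • ((h : P) • y) ∧
          (((q * C) = 1 ↔ (h : P) • y ∈ B0) ↔ (C = 1 ↔ y ∈ B0)) := by
      intro C y hy
      refine ⟨_, rfl, ?_, ?_, ?_⟩
      · refine Subgroup.mem_map.2 ⟨(rep (q * C))⁻¹ * (⟨g, hg⟩ : K) * rep C, ?_, rfl⟩
        rw [← QuotientGroup.eq_one_iff, QuotientGroup.mk_mul, QuotientGroup.mk_mul, QuotientGroup.mk_inv,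
          hrep, hrep, ← hq, mul_assoc, inv_mul_cancel]
      · rw [smul_smul, smul_smul, Subgroup.coe_mul, Subgroup.coe_mul, Subgroup.coe_inv, mul_assoc,
          mul_inv_cancel_left]
      · have hh : (((rep (q * C))⁻¹ * ⟨g, hg⟩ * rep C : K) : P) ∈ K1 := by
          refine Subgroup.mem_map.2 ⟨(rep (q * C))⁻¹ * (⟨g, hg⟩ : K) * rep C, ?_, rfl⟩
          rw [← QuotientGroup.eq_one_iff, QuotientGroup.mk_mul, QuotientGroup.mk_mul, QuotientGroup.mk_inv,
            hrep, hrep, ← hq, mul_assoc, inv_mul_cancel]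
        rw [← hBy _ _ (hO0i _ hh y hy), ← hBy _ _ hy]
        have h7 := hgB _ (hinv _ (rep C).2 _ (hO0s hy))
        rw [← h7, smul_smul, smul_smul, Subgroup.coe_mul, Subgroup.coe_mul, Subgroup.coe_inv, mul_assoc,
          mul_inv_cancel_left]
    have hg1 : q = 1 := by
      by_contra hne
      obtain ⟨h, hh, hhK, -, -⟩ := hshift 1 x0 ⟨1, one_mem _, one_smul P x0⟩
      refine hflip h hhK fun y hy => ?_
      obtain ⟨h', hh', -, -, hiff⟩ := hshift 1 y hy
      rw [← hh] at hh'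
      subst hh'
      rw [mul_one] at hiff
      simp only [hne, true_iff, false_iff] at hiff
      tauto
    intro x hx
    obtain ⟨k, hk, rfl⟩ := htr x hx
    set C : K ⧸ M := QuotientGroup.mk (⟨k, hk⟩ : K)
    have hkm : (rep C)⁻¹ * ⟨k, hk⟩ ∈ M := QuotientGroup.eq.1 (hrep C)
    set y : α := (((rep C)⁻¹ * ⟨k, hk⟩ : K) : P) • x0
    have hy : y ∈ O0 := ⟨_, Subgroup.mem_map.2 ⟨_, hkm, rfl⟩, rfl⟩
    have hky : k • x0 = (rep C : P) • y := by
      show k • x0 = _
      rw [smul_smul, Subgroup.coe_mul, Subgroup.coe_inv, mul_inv_cancel_left]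
    obtain ⟨h, hh, hhK, hgy, -⟩ := hshift C y hy
    rw [hky, hgy, hg1, one_mul]
    rw [hB0 h hhK (fun z hz => ?_) y hy]
    obtain ⟨h', hh', -, -, hiff⟩ := hshift C z hz
    rw [← hh] at hh'
    subst hh'
    rw [hg1, one_mul] at hiff
    tauto

end Cfsg.Agent.Perm.NoFixConj
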