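import Cfsg.Agent.Lib.Perm.NoFixConj.Space
import Cfsg.Agent.Lib.Perm.NoFixConj.Subset
import Cfsg.Agent.Lib.Solv.Kulakoff

/-!
In a coprime action with a normal `p`-subgroup `P`, `p` odd, some vector is moved by every conjugate of a
given element of `P` which acts nontrivially.
-/

set_option autoImplicit false
set_option linter.style.haveILetI false
set_option linter.unusedSectionVars false

open scoped commutatorElement

namespace Cfsg.Agent.Perm.NoFixConj

universe u v

variable {H : Type u} [Group H] {V : Type v} [AddCommGroup V] [DistribMulAction H V] {p : ℕ}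

/-! ### The generators of order `p` of the second centre -/

theorem pow_mul_eq_one [hp : Fact p.Prime] (hp2 : p ≠ 2) {x y : H} (hx : x ^ p = 1) (hy : y ^ p = 1)
    (hcx : Commute ⁅y, x⁆ x) (hcy : Commute ⁅y, x⁆ y) : (x * y) ^ p = 1 := by
  have h1 := conj_pow_eq (v := y) (u := x) (c := ⁅y, x⁆) (by rw [commutatorElement_def]; group) hcy.symm p
  rw [hy, one_mul, inv_one, mul_one] at h1
  have hc : ⁅y, x⁆ ^ p = 1 := mul_eq_right.1 h1.symm
  rw [Cfsg.Agent.Solv.mul_pow_prime_of_comm hp.out hp2 (c := ⁅y, x⁆) ?_ hcx hcy hc, hx, hy, one_mul]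
  calc y * x = ⁅y, x⁆ * x * y := by rw [commutatorElement_def]; group
    _ = x * ⁅y, x⁆ * y := by rw [hcx.eq]
    _ = x * y * ⁅y, x⁆ := by rw [mul_assoc, hcy.eq, mul_assoc]

theorem comm_pow_eq_one {x y : H} (hx : x ^ p = 1) (hc : Commute ⁅x, y⁆ x) : ⁅x, y⁆ ^ p = 1 := by
  have h1 := conj_pow_eq (v := x) (u := y) (c := ⁅x, y⁆) (by rw [commutatorElement_def]; group) hc.symm p
  rw [hx, one_mul, inv_one, mul_one] at h1
  exact mul_eq_right.1 h1.symm

/-- The elements of order dividing `p` in the second centre. -/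
def omg [hp : Fact p.Prime] (hp2 : p ≠ 2) (K : Subgroup H) : Subgroup H where
  carrier := {x | x ∈ K ∧ x ^ p = 1 ∧ ∀ k ∈ K, ∀ l ∈ K, Commute ⁅x, k⁆ l}
  one_mem' := ⟨one_mem K, one_pow p, fun k _ l _ => by
    rw [commutatorElement_one_left]; exact Commute.one_left l⟩
  inv_mem' := by
    rintro x ⟨hxK, hxp, hxc⟩
    refine ⟨inv_mem hxK, by rw [inv_pow, hxp, inv_one], fun k hk l hl => ?_⟩
    have h : ⁅x⁻¹, k⁆ = (⁅x, k⁆)⁻¹ := by
      calc ⁅x⁻¹, k⁆ = x⁻¹ * ⁅x, k⁆⁻¹ * x := by rw [commutatorElement_def, commutatorElement_def]; group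
        _ = ⁅x, k⁆⁻¹ := by rw [mul_assoc, (hxc k hk x hxK).inv_left.eq, inv_mul_cancel_left]
    rw [h]
    exact (hxc k hk l hl).inv_left
  mul_mem' := by
    rintro x y ⟨hxK, hxp, hxc⟩ ⟨hyK, hyp, hyc⟩
    refine ⟨mul_mem hxK hyK, pow_mul_eq_one hp2 hxp hyp (hyc x hxK x hxK) (hyc x hxK y hyK),
      fun k hk l hl => ?_⟩
    have h : ⁅x * y, k⁆ = ⁅y, k⁆ * ⁅x, k⁆ := by
      calc ⁅x * y, k⁆ = x * ⁅y, k⁆ * x⁻¹ * ⁅x, k⁆ := by
            rw [commutatorElement_def, commutatorElement_def, commutatorElement_def]; group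
        _ = ⁅y, k⁆ * ⁅x, k⁆ := by rw [← (hyc k hk x hxK).eq, mul_inv_cancel_right]
    rw [h]
    exact (hyc k hk l hl).mul_left (hxc k hk l hl)

theorem mem_omg [hp : Fact p.Prime] {hp2 : p ≠ 2} {K : Subgroup H} {x : H} :
    x ∈ omg hp2 K ↔ x ∈ K ∧ x ^ p = 1 ∧ ∀ k ∈ K, ∀ l ∈ K, Commute ⁅x, k⁆ l := Iff.rfl

theorem omg_normal [hp : Fact p.Prime] (hp2 : p ≠ 2) (K : Subgroup H) (hK : K.Normal) :
    (omg hp2 K).Normal := by
  refine ⟨fun x ⟨hxK, hxp, hxc⟩ g => ⟨hK.conj_mem x hxK g, by rw [conj_pow, hxp, mul_one, mul_inv_cancel], ?_⟩⟩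
  intro k hk l hl
  have hk' : g⁻¹ * k * g ∈ K := hK.conj_mem' k hk g
  have hl' : g⁻¹ * l * g ∈ K := hK.conj_mem' l hl g
  have h : ⁅g * x * g⁻¹, k⁆ = g * ⁅x, g⁻¹ * k * g⁆ * g⁻¹ := by
    rw [commutatorElement_def, commutatorElement_def]; group
  rw [h, show l = g * (g⁻¹ * l * g) * g⁻¹ by group]
  exact (hxc _ hk' _ hl').conj g

/-! ### Centraliser of an extraspecial subgroup -/

variable [Finite H]

theorem exists_decomp [hp : Fact p.Prime] {z : H} {S : Subgroup H} (E : Extra p z S) {u v : H} (hu : u ∈ S)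
    (hv : v ∈ S) (huv : ⁅v, u⁆ ≠ 1) {y : H} (hyu : ⁅y, u⁆ ∈ Subgroup.zpowers z)
    (hyv : ⁅y, v⁆ ∈ Subgroup.zpowers z) :
    ∃ α β : ℕ, Commute ((u ^ β)⁻¹ * ((v ^ α)⁻¹ * y)) u ∧ Commute ((u ^ β)⁻¹ * ((v ^ α)⁻¹ * y)) v := by
  set c := ⁅v, u⁆ with hcdef
  have hcz : c ∈ Subgroup.zpowers z := E.comm v hv u hu
  have hvu : v * u * v⁻¹ = c * u := by rw [hcdef, commutatorElement_def]; group
  obtain ⟨α, hα⟩ := E.mem_powers hcz huv hyu
  set y1 := (v ^ α)⁻¹ * y with hy1
  have hy1u : y1 * u * y1⁻¹ = u := by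
    have h1 : y * u * y⁻¹ = c ^ α * u := by rw [hα, commutatorElement_def]; group
    calc y1 * u * y1⁻¹ = (v ^ α)⁻¹ * (y * u * y⁻¹) * v ^ α := by rw [hy1]; group
      _ = (v ^ α)⁻¹ * (v ^ α * u * (v ^ α)⁻¹) * v ^ α := by
        rw [h1, conj_pow_eq hvu (E.commute_z hcz hv) α]
      _ = u := by group
  have hy1v : ⁅y1, v⁆ ∈ Subgroup.zpowers z := by
    have h2 : ⁅y1, v⁆ = (v ^ α)⁻¹ * ⁅y, v⁆ * v ^ α := by
      rw [hy1, commutatorElement_def, commutatorElement_def]; group
    rw [h2, ((E.commute_z hyv hv).pow_left α).inv_left.eq, inv_mul_cancel_right]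
    exact hyv
  have hc' : c⁻¹ ∈ Subgroup.zpowers z := inv_mem hcz
  obtain ⟨β, hβ⟩ := E.mem_powers hc' (fun h => huv (inv_eq_one.1 h)) hy1v
  refine ⟨α, β, mul_inv_eq_iff_eq_mul.1 ?_, mul_inv_eq_iff_eq_mul.1 ?_⟩
  · calc _ = (u ^ β)⁻¹ * (y1 * u * y1⁻¹) * u ^ β := by rw [hy1]; group
      _ = u := by rw [hy1u]; group
  · have huv' : u * v * u⁻¹ = c⁻¹ * v := by rw [hcdef, commutatorElement_def]; group
    have h1 : y1 * v * y1⁻¹ = c⁻¹ ^ β * v := by rw [hβ, commutatorElement_def]; group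
    calc _ = (u ^ β)⁻¹ * (y1 * v * y1⁻¹) * u ^ β := by rw [hy1]; group
      _ = (u ^ β)⁻¹ * (u ^ β * v * (u ^ β)⁻¹) * u ^ β := by
        rw [h1, conj_pow_eq huv' (E.commute_z hcz hu).inv_right β]
      _ = v := by group

theorem adjust [hp : Fact p.Prime] {z : H} : ∀ (N : ℕ) (S : Subgroup H), Nat.card S ≤ N → Extra p z S →
    ∀ y : H, Commute y z → (∀ x ∈ S, ⁅y, x⁆ ∈ Subgroup.zpowers z) →
      ∃ r ∈ S, ∀ x ∈ S, Commute (r * y) x := by
  intro N
  induction N with
  | zero => intro S hS; have := Nat.card_pos (α := S); omega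
  | succ N ih =>
    intro S hS E y hyz hy
    by_cases hab : ∀ x ∈ S, ∀ y ∈ S, ⁅y, x⁆ = 1
    · refine ⟨1, one_mem S, fun x hx => ?_⟩
      obtain ⟨i, rfl⟩ := Subgroup.mem_zpowers_iff.1
        (E.center x hx fun y hy => commutatorElement_eq_one_iff_mul_comm.1 (hab y hy x hx))
      rw [one_mul]
      exact hyz.zpow_right i
    push Not at hab
    obtain ⟨u, hu, v, hv, huv⟩ := hab
    obtain ⟨E', -⟩ := E.reduce hu hv huv
    set S' := S ⊓ Subgroup.centralizer {u, v} with hS'
    have hmem : ∀ x : H, x ∈ S' → Commute x u ∧ Commute x v := fun x hx =>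
      ⟨(Subgroup.mem_centralizer_iff.1 (Subgroup.mem_inf.1 hx).2 u (by simp)).symm,
        (Subgroup.mem_centralizer_iff.1 (Subgroup.mem_inf.1 hx).2 v (by simp)).symm⟩
    have hlt : Nat.card S' < Nat.card S := by
      refine lt_of_le_of_ne (Subgroup.card_le_of_le inf_le_left) fun e => huv ?_
      have h1 : u ∈ S' := (Subgroup.eq_of_le_of_card_ge inf_le_left e.ge).ge hu
      exact commutatorElement_eq_one_iff_mul_comm.2 (hmem u h1).2.symm
    obtain ⟨α, β, hy2u, hy2v⟩ := exists_decomp E hu hv huv (hy u hu) (hy v hv)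
    set y2 := (u ^ β)⁻¹ * ((v ^ α)⁻¹ * y) with hy2
    obtain ⟨r', hr', hr'c⟩ := ih S' (by omega) E' y2
      (((E.central u hu).pow_left β).inv_left.mul_left (((E.central v hv).pow_left α).inv_left.mul_left hyz))
      (fun x hx => by
        have h5 : Commute ((u ^ β)⁻¹ * (v ^ α)⁻¹) x :=
          ((hmem x hx).1.symm.pow_left β).inv_left.mul_left ((hmem x hx).2.symm.pow_left α).inv_left
        have hxS := (Subgroup.mem_inf.1 hx).1
        have h6 : Commute ((u ^ β)⁻¹ * (v ^ α)⁻¹) ⁅y, x⁆ :=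
          E.commute_z (hy x hxS) (mul_mem (inv_mem (pow_mem hu β)) (inv_mem (pow_mem hv α)))
        set w := (u ^ β)⁻¹ * (v ^ α)⁻¹ with hw
        have h7 : ⁅y2, x⁆ = w * ⁅y, x⁆ * (x * w⁻¹ * x⁻¹) := by
          rw [hy2, hw, commutatorElement_def, commutatorElement_def]; group
        rw [h7, h6.eq, show x * w⁻¹ * x⁻¹ = w⁻¹ by rw [← h5.inv_left.eq, mul_inv_cancel_right],
          mul_inv_cancel_right]
        exact hy x hxS)
    refine ⟨r' * ((u ^ β)⁻¹ * (v ^ α)⁻¹), mul_mem (Subgroup.mem_inf.1 hr').1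
      (mul_mem (inv_mem (pow_mem hu β)) (inv_mem (pow_mem hv α))), fun x hx => ?_⟩
    rw [show r' * ((u ^ β)⁻¹ * (v ^ α)⁻¹) * y = r' * y2 by rw [hy2]; group]
    obtain ⟨α', β', hx2u, hx2v⟩ := exists_decomp E hu hv huv (E.comm x hx u hu) (E.comm x hx v hv)
    set x2 := (u ^ β')⁻¹ * ((v ^ α')⁻¹ * x) with hx2
    have hx2S : x2 ∈ S' := Subgroup.mem_inf.2
      ⟨mul_mem (inv_mem (pow_mem hu β')) (mul_mem (inv_mem (pow_mem hv α')) hx),
        Subgroup.mem_centralizer_iff.2 fun w hw => by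
          rcases hw with rfl | rfl
          exacts [hx2u.symm, hx2v.symm]⟩
    rw [show x = v ^ α' * (u ^ β' * x2) by rw [hx2]; group]
    exact (((hmem r' hr').2.mul_left hy2v).pow_right α').mul_right
      ((((hmem r' hr').1.mul_left hy2u).pow_right β').mul_right (hr'c x2 hx2S))

theorem mem_zpowers_of_cyclic [hp : Fact p.Prime] {C : Subgroup H} [IsCyclic C] {z x : H} (hz : z ∈ C)
    (hzo : orderOf z = p) (hx : x ∈ C) (hxp : x ^ p = 1) : x ∈ Subgroup.zpowers z := by
  classical
  haveI := Fintype.ofFinite C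
  by_contra hxz
  have hc := IsCyclic.card_pow_eq_one_le (α := C) hp.out.pos
  set zz : C := ⟨z, hz⟩ with hzz
  set xx : C := ⟨x, hx⟩ with hxx
  have hzzo : orderOf zz = p := by rw [hzz, Subgroup.orderOf_mk, hzo]
  have hsub : insert xx ((Finset.range p).image (fun i => zz ^ i)) ⊆
      Finset.univ.filter (fun a : C => a ^ p = 1) := by
    intro a ha
    rw [Finset.mem_filter]
    refine ⟨Finset.mem_univ _, ?_⟩
    rcases Finset.mem_insert.1 ha with rfl | ha
    · exact Subtype.ext hxp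
    · obtain ⟨i, -, rfl⟩ := Finset.mem_image.1 ha
      rw [← pow_mul, mul_comm, pow_mul, ← hzzo, pow_orderOf_eq_one, one_pow]
  have h1 := (Finset.card_le_card hsub).trans hc
  rw [Finset.card_insert_of_notMem, Finset.card_image_of_injOn, Finset.card_range] at h1
  · omega
  · intro i hi j hj hij
    exact pow_injOn_Iio_orderOf (x := zz) (by rw [hzzo]; simpa using hi) (by rw [hzzo]; simpa using hj) hij
  · rintro h
    obtain ⟨i, -, hi⟩ := Finset.mem_image.1 h
    exact hxz ⟨i, by simpa [hzz, hxx] using congrArg Subtype.val hi⟩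

/-! ### The two cases -/

variable [Finite V]

section cases

variable (hfaith : ∀ h : H, (∀ v : V, h • v = v) → h = 1)
  (hirr : ∀ U : AddSubgroup V, (∀ (h : H), ∀ v ∈ U, h • v ∈ U) → U = ⊥ ∨ U = ⊤)
  (hco : (Nat.card V).Coprime p) [hp : Fact p.Prime] (hp2 : p ≠ 2)
  {P : Subgroup H} (hPn : P.Normal) (hP : IsPGroup p P) {a : H} (ha : a ∈ P)

include hfaith hirr hco hp2 hPn hP ha in
theorem case_cyclic (hao : orderOf a = p)
    (hcyc : ∀ E : Subgroup H, E ≤ P → E.Normal → (∀ x ∈ E, ∀ y ∈ E, Commute x y) → IsCyclic E) :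
    ∃ v : V, ∀ h : H, (h * a * h⁻¹) • v ≠ v := by
  classical
  have hap : a ^ p = 1 := by rw [← hao, pow_orderOf_eq_one]
  have ha1 : a ≠ 1 := fun h => by
    rw [h, orderOf_one] at hao
    exact hp.out.ne_one hao.symm
  haveI : Nontrivial V := by
    by_contra h
    rw [not_nontrivial_iff_subsingleton] at h
    exact ha1 (hfaith a fun v => Subsingleton.elim _ _)
  -- the centre of `P`
  set Z := P ⊓ Subgroup.centralizer (P : Set H) with hZ
  haveI := hPn
  haveI hZn : Z.Normal := inferInstance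
  have hZc : ∀ x, x ∈ Z ↔ x ∈ P ∧ ∀ y ∈ P, Commute x y := fun x => by
    rw [hZ, Subgroup.mem_inf, Subgroup.mem_centralizer_iff]
    exact and_congr_right fun _ => forall₂_congr fun y _ => eq_comm
  haveI hZcyc : IsCyclic Z := hcyc Z inf_le_left inferInstance fun x hx y hy =>
    ((hZc x).1 hx).2 y ((hZc y).1 hy).1
  obtain ⟨⟨z, hzP⟩, -, hzc, hzo⟩ := Cfsg.Agent.Solv.exists_central_order hP ⊤ (fun h => ha1 (by
    have h1 : (⟨a, ha⟩ : P) ∈ (⊥ : Subgroup P) := h ▸ Subgroup.mem_top _
    exact congrArg Subtype.val (Subgroup.mem_bot.1 h1)))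
  rw [Subgroup.orderOf_mk] at hzo
  have hzcen : ∀ y ∈ P, Commute z y := fun y hy =>
    (congrArg Subtype.val (Subgroup.mem_center_iff.1 hzc ⟨y, hy⟩)).symm
  have hzZ : z ∈ Z := (hZc z).2 ⟨hzP, hzcen⟩
  have hz1 : z ≠ 1 := fun h => by
    rw [h, orderOf_one] at hzo
    exact hp.out.ne_one hzo.symm
  have hzp : z ^ p = 1 := by rw [← hzo, pow_orderOf_eq_one]
  have hzle : ∀ x, x ∈ Z → x ^ p = 1 → x ∈ Subgroup.zpowers z := fun x hx hxp =>
    mem_zpowers_of_cyclic hzZ hzo hx hxp
  have hzconj : ∀ g : H, g * z * g⁻¹ ∈ Subgroup.zpowers z := fun g =>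
    hzle _ (hZn.conj_mem z hzZ g) (by rw [conj_pow, hzp, mul_one, mul_inv_cancel])
  have hfree : ∀ w : V, z • w = w → w = 0 := by
    rcases hirr (fix V z) (fun h v hv => by
      obtain ⟨i, hi⟩ := (isOfFinOrder_of_finite z).mem_powers_iff_mem_zpowers.2 (hzconj h⁻¹)
      show z • (h • v) = h • v
      have h1 : h⁻¹ * z * h = z ^ i := by
        rw [inv_inv] at hi
        exact hi.symm
      rw [smul_smul, show z * h = h * (h⁻¹ * z * h) by group, mul_smul, h1, pow_smul_of_fix hv i]) with h | h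
    · exact fun w hw => (AddSubgroup.eq_bot_iff_forall _).1 h w hw
    · exact absurd (hfaith z fun v => (h.ge (AddSubgroup.mem_top v) : v ∈ fix V z)) hz1
  -- the subgroup `R`
  set R := omg hp2 P with hR
  haveI hRn : R.Normal := omg_normal hp2 P hPn
  have hzR : z ∈ R := mem_omg.2 ⟨hzP, hzp, fun k hk l hl => by
    rw [commutatorElement_eq_one_iff_mul_comm.2 (hzcen k hk).eq]; exact Commute.one_left l⟩
  have hRP : R ≤ P := fun x hx => (mem_omg.1 hx).1
  have hRcomm : ∀ x ∈ R, ∀ y ∈ P, ⁅x, y⁆ ∈ Subgroup.zpowers z := by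
    intro x hx y hy
    obtain ⟨hxP, hxp, hxc⟩ := mem_omg.1 hx
    refine hzle _ ((hZc _).2 ⟨?_, hxc y hy⟩) (comm_pow_eq_one hxp (hxc y hy x hxP))
    rw [commutatorElement_def]
    exact mul_mem (mul_mem (mul_mem hxP hy) (inv_mem hxP)) (inv_mem hy)
  have E : Extra p z R := by
    refine ⟨hzo, hzR, fun x hx => (mem_omg.1 hx).2.1, fun x hx y hy => hRcomm x hx y (hRP hy),
      fun x hx => (hzcen x (hRP hx)).symm, fun x hx hxc => ?_⟩
    haveI := hcyc (R ⊓ Subgroup.centralizer (R : Set H)) (inf_le_left.trans hRP) inferInstance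
      (fun x hx y hy => (Subgroup.mem_centralizer_iff.1 (Subgroup.mem_inf.1 hy).2 x (Subgroup.mem_inf.1 hx).1))
    refine mem_zpowers_of_cyclic (C := R ⊓ Subgroup.centralizer (R : Set H)) ?_ hzo ?_ (mem_omg.1 hx).2.1
    · exact Subgroup.mem_inf.2 ⟨hzR, Subgroup.mem_centralizer_iff.2 fun y hy => (hzcen y (hRP hy)).symm⟩
    · exact Subgroup.mem_inf.2 ⟨hx, Subgroup.mem_centralizer_iff.2 fun y hy => (hxc y hy).symm⟩
  -- its centraliser in `P` is cyclic
  set C := P ⊓ Subgroup.centralizer (R : Set H) with hC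
  haveI hCn : C.Normal := inferInstance
  have hzC : z ∈ C := Subgroup.mem_inf.2 ⟨hzP, Subgroup.mem_centralizer_iff.2 fun y hy => (hzcen y (hRP hy)).symm⟩
  haveI hCcyc : IsCyclic C := by
    by_contra hnc
    have hCp : IsPGroup p C := hP.to_le inf_le_left
    obtain ⟨W, hWn, hWe, hWc⟩ := Cfsg.Agent.Solv.exists_normal_elementary_sq hp2 hCp hnc
    have hWne : W ≠ ⊥ := fun h => by
      rw [h, Subgroup.card_bot] at hWc
      exact hp.out.ne_one ((Nat.pow_eq_one.1 hWc.symm).resolve_right two_ne_zero)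
    obtain ⟨z', hz'W, hz'c, hz'o⟩ := Cfsg.Agent.Solv.exists_central_order hCp W hWne
    set Z' := Subgroup.zpowers z' with hZ'
    haveI : Z'.Normal := Cfsg.Agent.Solv.normal_of_le_center' (Subgroup.zpowers_le.2 hz'c)
    set π := QuotientGroup.mk' Z' with hπ
    haveI : (W.map π).Normal := hWn.map π (QuotientGroup.mk'_surjective Z')
    have hcard : Nat.card (W.map π) = p := by
      have h := Cfsg.Agent.Solv.card_map_mk'_mul_card_inf Z' W
      have hZcard : Nat.card Z' = p := by rw [hZ', Nat.card_zpowers, hz'o]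
      rw [inf_eq_left.2 (Subgroup.zpowers_le.2 hz'W), hWc, hZcard, pow_two] at h
      exact Nat.eq_of_mul_eq_mul_right hp.out.pos h
    obtain ⟨q, hqW, hqc, hqo⟩ := Cfsg.Agent.Solv.exists_central_order (hCp.to_quotient Z') (W.map π) (fun h => by
      rw [h, Subgroup.card_bot] at hcard
      exact hp.out.ne_one hcard.symm)
    have hWq : W.map π ≤ Subgroup.center (C ⧸ Z') := by
      rw [← Subgroup.eq_of_le_of_card_ge (Subgroup.zpowers_le.2 hqW) (by rw [hcard, Nat.card_zpowers, hqo])]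
      exact Subgroup.zpowers_le.2 hqc
    set OC := omg hp2 C with hOC
    haveI hOCn : OC.Normal := omg_normal hp2 C hCn
    have hWO : ∀ w ∈ W, (w : H) ∈ OC := by
      intro w hw
      refine mem_omg.2 ⟨w.2, congrArg Subtype.val (hWe.2 w hw), fun k hk l hl => ?_⟩
      have h1 := Subgroup.mem_center_iff.1 (hWq ⟨w, hw, rfl⟩) (π ⟨k, hk⟩)
      have h2 : π ⁅w, ⟨k, hk⟩⁆ = 1 := by
        rw [map_commutatorElement]
        exact commutatorElement_eq_one_iff_mul_comm.2 h1.symm
      have h3 : ⁅w, (⟨k, hk⟩ : C)⁆ ∈ Subgroup.center C :=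
        Subgroup.zpowers_le.2 hz'c ((QuotientGroup.eq_one_iff _).1 h2)
      exact (congrArg Subtype.val (Subgroup.mem_center_iff.1 h3 ⟨l, hl⟩)).symm
    have hOCne : ¬ OC ≤ Subgroup.zpowers z := fun h => by
      have h1 : (W.map C.subtype) ≤ Subgroup.zpowers z := fun x ⟨w, hw, e⟩ => h (e ▸ hWO w hw)
      have h2 := Subgroup.card_le_of_le h1
      rw [Nat.card_congr (Subgroup.equivMapOfInjective W _ C.subtype_injective).symm.toEquiv, hWc,
        Nat.card_zpowers, hzo] at h2
      have h3 : p * 2 ≤ p ^ 2 := by rw [pow_two]; exact Nat.mul_le_mul_left p hp.out.two_le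
      have := hp.out.pos
      omega
    set N1 := (Subgroup.zpowers z).subgroupOf P with hN1
    haveI : N1.Normal := ⟨fun x hx g => by
      show ((g * x * g⁻¹ : P) : H) ∈ Subgroup.zpowers z
      obtain ⟨i, hi⟩ := Subgroup.mem_zpowers_iff.1 (show (x : H) ∈ Subgroup.zpowers z from hx)
      refine Subgroup.mem_zpowers_iff.2 ⟨i, ?_⟩
      rw [Subgroup.coe_mul, Subgroup.coe_mul, Subgroup.coe_inv, ← hi,
        ← ((hzcen g g.2).zpow_left i).eq, mul_inv_cancel_right]⟩
    set π1 := QuotientGroup.mk' N1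
    haveI : ((OC.subgroupOf P).map π1).Normal :=
      (inferInstance : (OC.subgroupOf P).Normal).map π1 (QuotientGroup.mk'_surjective N1)
    obtain ⟨-, ⟨⟨x, hxP⟩, hxO, rfl⟩, hxc, hxo⟩ := Cfsg.Agent.Solv.exists_central_order (hP.to_quotient N1)
      ((OC.subgroupOf P).map π1) (fun h => hOCne fun x hx => by
        have h1 : π1 ⟨x, inf_le_left (α := Subgroup H) (mem_omg.1 hx).1⟩ ∈ (⊥ : Subgroup (P ⧸ N1)) :=
          h ▸ ⟨_, hx, rfl⟩
        exact (QuotientGroup.eq_one_iff (N := N1) _).1 (Subgroup.mem_bot.1 h1))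
    have hxz : x ∉ Subgroup.zpowers z := fun h => by
      rw [show π1 ⟨x, hxP⟩ = 1 from (QuotientGroup.eq_one_iff _).2 h, orderOf_one] at hxo
      exact hp.out.ne_one hxo.symm
    have hxO' : x ∈ OC := hxO
    have hxR : x ∈ R := mem_omg.2 ⟨hxP, (mem_omg.1 hxO').2.1, fun k hk l hl => by
      have h1 := Subgroup.mem_center_iff.1 hxc (π1 ⟨k, hk⟩)
      have h2 : π1 ⁅(⟨x, hxP⟩ : P), ⟨k, hk⟩⁆ = 1 := by
        rw [map_commutatorElement]
        exact commutatorElement_eq_one_iff_mul_comm.2 h1.symm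
      have h3 : ⁅x, k⁆ ∈ Subgroup.zpowers z := (QuotientGroup.eq_one_iff (N := N1) _).1 h2
      obtain ⟨i, hi⟩ := Subgroup.mem_zpowers_iff.1 h3
      rw [← hi]
      exact (hzcen l hl).zpow_left i⟩
    exact hxz (E.center x hxR fun y hy =>
      (Subgroup.mem_centralizer_iff.1 (Subgroup.mem_inf.1 (mem_omg.1 hxO').1).2 y hy).symm)
  -- `a` lies in `R`
  have haR : a ∈ R := by
    have hac : ∀ x ∈ R, ⁅a, x⁆ ∈ Subgroup.zpowers z := fun x hx => by
      rw [← commutatorElement_inv]; exact inv_mem (hRcomm x hx a ha)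
    obtain ⟨r, hr, hrc⟩ := adjust _ R le_rfl E a (hzcen a ha).symm hac
    have hraC : r * a ∈ C := Subgroup.mem_inf.2
      ⟨mul_mem (hRP hr) ha, Subgroup.mem_centralizer_iff.2 fun x hx => (hrc x hx).symm⟩
    have h1 : r * a ∈ Subgroup.zpowers z := by
      refine mem_zpowers_of_cyclic hzC hzo hraC (pow_mul_eq_one hp2 (E.pow r hr) hap ?_ ?_)
      · obtain ⟨i, hi⟩ := Subgroup.mem_zpowers_iff.1 (hac r hr)
        rw [← hi]; exact (hzcen r (hRP hr)).zpow_left i
      · obtain ⟨i, hi⟩ := Subgroup.mem_zpowers_iff.1 (hac r hr)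
        rw [← hi]; exact (hzcen a ha).zpow_left i
    have h2 : r * a ∈ R := Subgroup.zpowers_le.2 hzR h1
    simpa using mul_mem (inv_mem hr) h2
  obtain ⟨v, hv⟩ := E.exists_free hp2 hco hfree
  by_cases hv0 : v = 0
  · obtain ⟨w, hw⟩ := exists_ne (0 : V)
    refine ⟨w, fun h e => ?_⟩
    by_cases hhz : h * a * h⁻¹ ∈ Subgroup.zpowers z
    · exact hw (E.free hhz (fun e1 => ha1 (by simpa using e1)) ⊤ (fun w _ => hfree w) w trivial e)
    · exact hv _ (hRn.conj_mem a haR h) hhz (by rw [hv0, smul_zero])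
  · refine ⟨v, fun h e => ?_⟩
    by_cases hhz : h * a * h⁻¹ ∈ Subgroup.zpowers z
    · exact hv0 (E.free hhz (fun e1 => ha1 (by simpa using e1)) ⊤ (fun w _ => hfree w) v trivial e)
    · exact hv _ (hRn.conj_mem a haR h) hhz e

/-- The common fixed space of a set of elements. -/
def fixS (V : Type v) [AddCommGroup V] [DistribMulAction H V] (M : Subgroup H) : AddSubgroup V where
  carrier := {v | ∀ m ∈ M, m • v = v}
  add_mem' {a b} ha hb m hm := by rw [smul_add, ha m hm, hb m hm]
  zero_mem' m _ := smul_zero m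
  neg_mem' {a} ha m hm := by rw [smul_neg, ha m hm]

include hfaith hirr hco hp2 hPn hP ha in
theorem case_noncyclic {E : Subgroup H} (hEP : E ≤ P) (hEn : E.Normal)
    (hEc : ∀ x ∈ E, ∀ y ∈ E, Commute x y) (hnc : ¬ IsCyclic E) (hmove : ∃ v : V, a • v ≠ v)
    (hIH : ∀ W : AddSubgroup V, W ≠ ⊤ → ∀ H0 : Subgroup H, (∀ h ∈ H0, ∀ w ∈ W, h • w ∈ W) → a ∈ H0 →
      (∃ w ∈ W, a • w ≠ w) → ∃ w ∈ W, ∀ h ∈ H0, (h * a * h⁻¹) • w ≠ w) :
    ∃ v : V, ∀ h : H, (h * a * h⁻¹) • v ≠ v := by
  classical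
  haveI : Nontrivial V := by
    obtain ⟨v, hv⟩ := hmove
    exact ⟨⟨_, _, hv⟩⟩
  -- a maximal subgroup of `E` with fixed points
  obtain ⟨M0, -, hM0⟩ := Finite.exists_le_maximal
    (p := fun M : Subgroup H => M ≤ E ∧ fixS V M ≠ ⊥) (a := ⊥) ⟨bot_le, fun h => by
      obtain ⟨v, hv⟩ := exists_ne (0 : V)
      exact hv ((AddSubgroup.eq_bot_iff_forall _).1 h v fun m hm => by rw [Subgroup.mem_bot.1 hm, one_smul])⟩
  obtain ⟨⟨hM0E, hM0f⟩, hM0max⟩ := hM0
  let cj : H → Subgroup H → Subgroup H := fun h M => M.map (MulAut.conj h).toMonoidHom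
  have hmem : ∀ (h : H) (M : Subgroup H) (x : H), x ∈ cj h M ↔ h⁻¹ * x * h ∈ M := fun h M x => by
    constructor
    · rintro ⟨m, hm, rfl⟩
      simpa [MulAut.conj_apply, mul_assoc] using hm
    · exact fun hx => ⟨_, hx, by simp [MulAut.conj_apply, mul_assoc]⟩
  have hcj1 : ∀ M, cj 1 M = M := fun M => by ext x; simp [hmem]
  have hcjm : ∀ g h M, cj (g * h) M = cj g (cj h M) := fun g h M => by
    ext x; simp [hmem, mul_assoc]
  have hfixcj : ∀ h M (v : V), v ∈ fixS V (cj h M) ↔ h⁻¹ • v ∈ fixS V M := fun h M v => by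
    constructor
    · intro hv m hm
      have h1 := hv (h * m * h⁻¹) ((hmem _ _ _).2 (by group; simpa using hm))
      calc m • (h⁻¹ • v) = h⁻¹ • ((h * m * h⁻¹) • v) := by rw [smul_smul, smul_smul]; group
        _ = h⁻¹ • v := by rw [h1]
    · intro hv m hm
      have h1 := hv _ ((hmem _ _ _).1 hm)
      rw [smul_smul, show h⁻¹ * m * h * h⁻¹ = h⁻¹ * m by group, mul_smul] at h1
      exact MulAction.injective h⁻¹ h1
  let S0 : Type u := {M : Subgroup H // ∃ h, cj h M0 = M}
  letI act : MulAction H S0 :=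
    { smul := fun g M => ⟨cj g M.1, by obtain ⟨h, hh⟩ := M.2; exact ⟨g * h, by rw [hcjm, hh]⟩⟩
      one_smul := fun M => Subtype.ext (hcj1 _)
      mul_smul := fun g h M => Subtype.ext (hcjm _ _ _) }
  haveI : Finite S0 := Subtype.finite
  letI := Fintype.ofFinite S0
  have hsval : ∀ (g : H) (M : S0), (g • M).1 = cj g M.1 := fun _ _ => rfl
  have hT : ∀ M : S0, M.1 ≤ E ∧ fixS V M.1 ≠ ⊥ ∧
      ∀ M' : Subgroup H, M' ≤ E → fixS V M' ≠ ⊥ → M.1 ≤ M' → M' ≤ M.1 := by
    rintro ⟨M, h, rfl⟩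
    refine ⟨fun x hx => ?_, fun hbot => ?_, fun M' hM'E hM'f hle => ?_⟩
    · have := hEn.conj_mem _ (hM0E ((hmem _ _ _).1 hx)) h
      simpa [mul_assoc] using this
    · refine hM0f ((AddSubgroup.eq_bot_iff_forall _).2 fun v hv => ?_)
      have h1 := (AddSubgroup.eq_bot_iff_forall _).1 hbot (h • v)
        ((hfixcj _ _ _).2 (by rwa [inv_smul_smul]))
      rwa [smul_eq_zero_iff_eq] at h1
    · have h1 : M0 ≤ cj h⁻¹ M' := fun x hx => by
        rw [hmem, inv_inv]
        exact hle ((hmem _ _ _).2 (by simpa [mul_assoc] using hx))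
      have h2 := hM0max ⟨fun x hx => by
          rw [hmem, inv_inv] at hx
          have := hEn.conj_mem' _ (hM'E hx) h
          simpa [mul_assoc] using this, fun hbot => hM'f ((AddSubgroup.eq_bot_iff_forall _).2 fun v hv => by
            have h1 := (AddSubgroup.eq_bot_iff_forall _).1 hbot (h⁻¹ • v)
              ((hfixcj _ _ _).2 (by rwa [inv_inv, smul_inv_smul]))
            rwa [smul_eq_zero_iff_eq] at h1)⟩ h1
      intro x hx
      refine (hmem _ _ _).2 (h2 ?_)
      rw [hmem, inv_inv]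
      simpa [mul_assoc] using hx
  -- independence of the fixed spaces
  have hinter : ∀ M M' : S0, M ≠ M' → ∀ v : V, v ∈ fixS V M.1 → v ∈ fixS V M'.1 → v = 0 := by
    intro M M' hne v hv hv'
    by_contra hv0
    have hs : M.1 ⊔ M'.1 ≤ MulAction.stabilizer H v := sup_le (fun m hm => hv m hm) (fun m hm => hv' m hm)
    have hf : fixS V (M.1 ⊔ M'.1) ≠ ⊥ := fun h =>
      hv0 ((AddSubgroup.eq_bot_iff_forall _).1 h v fun m hm => hs hm)
    have h1 := (hT M).2.2 _ (sup_le (hT M).1 (hT M').1) hf le_sup_left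
    have h2 := (hT M').2.2 _ (sup_le (hT M).1 (hT M').1) hf le_sup_right
    exact hne (Subtype.ext (le_antisymm (le_sup_left.trans h2) (le_sup_right.trans h1)))
  have hindep : ∀ f g : S0 → V, (∀ M, f M ∈ fixS V M.1) → (∀ M, g M ∈ fixS V M.1) →
      ∑ M, f M = ∑ M, g M → ∀ M, f M = g M := by
    intro f g hf hg hsum M
    haveI := Fintype.ofFinite M.1
    let e : V →+ V := ∑ m : M.1, DistribMulAction.toAddMonoidHom V (m : H)
    have he : ∀ x : V, e x = ∑ m : M.1, (m : H) • x := fun x => by simp [e]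
    have hefix : ∀ x ∈ fixS V M.1, e x = Fintype.card M.1 • x := fun x hx => by
      rw [he, Finset.sum_congr rfl fun (m : M.1) _ => hx m m.2, Finset.sum_const, Finset.card_univ]
    have hezero : ∀ M' : S0, M' ≠ M → ∀ x ∈ fixS V M'.1, e x = 0 := by
      intro M' hne x hx
      refine hinter M' M hne _ (fun m' hm' => ?_) fun m hm => ?_
      · rw [he, Finset.smul_sum]
        refine Finset.sum_congr rfl fun (m : M.1) _ => ?_
        rw [smul_smul, (hEc m' ((hT M').1 hm') m ((hT M).1 m.2)).eq, mul_smul, hx m' hm']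
      · rw [he, Finset.smul_sum]
        refine Fintype.sum_equiv (Equiv.mulLeft (⟨m, hm⟩ : M.1)) _ _ fun n => ?_
        simp [mul_smul]
    have key : ∀ f : S0 → V, (∀ M', f M' ∈ fixS V M'.1) → e (∑ M', f M') = Fintype.card M.1 • f M := by
      intro f hf
      rw [map_sum, Finset.sum_eq_single M (fun M' _ hne => hezero M' hne _ (hf M')) (by simp)]
      exact hefix _ (hf M)
    have h1 : Fintype.card M.1 • (f M - g M) = 0 := by
      rw [nsmul_sub, ← key f hf, ← key g hg, hsum, sub_self]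
    obtain ⟨k, hk⟩ := IsPGroup.iff_card.1 (hP.to_le ((hT M).1.trans hEP))
    rw [← Nat.card_eq_fintype_card, hk] at h1
    have h2 : addOrderOf (f M - g M) = 1 := Nat.eq_one_of_dvd_coprimes (hco.pow_right k)
      (addOrderOf_dvd_natCard _) (addOrderOf_dvd_of_nsmul_eq_zero h1)
    exact sub_eq_zero.1 (AddMonoid.addOrderOf_eq_one_iff.1 h2)
  by_cases hfixed : ∀ M : S0, a • M = M
  · -- `a` fixes every fixed space
    obtain ⟨M1, hM1⟩ : ∃ M : S0, ∃ w ∈ fixS V M.1, a • w ≠ w := by
      by_contra hall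
      push Not at hall
      set U : AddSubgroup V := ⨆ M : S0, fixS V M.1 with hU
      have hUinv : ∀ (h : H), ∀ v ∈ U, h • v ∈ U := fun h v hv => by
        have h1 : U ≤ U.comap (DistribMulAction.toAddMonoidHom V h) := iSup_le fun M x hx => by
          show h • x ∈ U
          refine AddSubgroup.mem_iSup_of_mem (h • M) ?_
          rw [hsval, hfixcj, inv_smul_smul]
          exact hx
        exact h1 hv
      rcases hirr U hUinv with h | h
      · refine hM0f (le_bot_iff.1 (h ▸ ?_))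
        exact le_iSup (fun M : S0 => fixS V M.1) ⟨M0, 1, hcj1 _⟩
      · obtain ⟨v, hv⟩ := hmove
        have h1 : U ≤ fix V a := iSup_le fun M x hx => hall M x hx
        exact hv (h1 (h ▸ AddSubgroup.mem_top v))
    have hW : fixS V M1.1 ≠ ⊤ := by
      intro htop
      have hM1bot : M1.1 = ⊥ := (Subgroup.eq_bot_iff_forall _).2 fun m hm =>
        hfaith m fun v => (htop.ge (AddSubgroup.mem_top v) : v ∈ fixS V M1.1) m hm
      have hEp : IsPGroup p E := hP.to_le hEP
      obtain ⟨W, -, hWe, hWc⟩ := Cfsg.Agent.Solv.exists_normal_elementary_sq hp2 hEp hnc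
      obtain ⟨⟨c, hc⟩, hc1⟩ : ∃ c : W, c ≠ 1 := by
        haveI : Nontrivial W := Finite.one_lt_card_iff_nontrivial.1
          (hWc ▸ Nat.one_lt_pow two_ne_zero hp.out.one_lt)
        exact exists_ne 1
      have hc1' : c ≠ 1 := fun h => hc1 (Subtype.ext h)
      have hco' : orderOf c = p := orderOf_eq_prime (hWe.2 c hc) hc1'
      obtain ⟨u, hu, huc⟩ : ∃ u ∈ W, u ∉ Subgroup.zpowers c := by
        by_contra h
        push Not at h
        have h2 := Subgroup.card_le_of_le (show W ≤ Subgroup.zpowers c from h)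
        rw [hWc, Nat.card_zpowers, hco'] at h2
        have h3 : p * 2 ≤ p ^ 2 := by rw [pow_two]; exact Nat.mul_le_mul_left p hp.out.two_le
        have := hp.out.pos
        omega
      have hfreeE : ∀ e ∈ E, e ≠ 1 → ∀ v : V, e • v = v → v = 0 := by
        intro e he he1 v hv
        by_contra hv0
        have h1 := (hT M1).2.2 (Subgroup.zpowers e) (Subgroup.zpowers_le.2 he) (fun h => hv0
          ((AddSubgroup.eq_bot_iff_forall _).1 h v fun m hm => by
            have h2 : Subgroup.zpowers e ≤ MulAction.stabilizer H v := Subgroup.zpowers_le.2 hv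
            exact h2 hm)) (hM1bot ▸ bot_le) (Subgroup.mem_zpowers e)
        rw [hM1bot] at h1
        exact he1 (Subgroup.mem_bot.1 h1)
      have hcp : (c : H) ^ p = 1 := congrArg Subtype.val (hWe.2 c hc)
      obtain ⟨v, hv⟩ := exists_ne (0 : V)
      refine hv (eq_zero_of_nsmul hco ?_)
      rw [← sum_nrm (u := (u : H)) (c := (c : H)) (hEc u u.2 c c.2) hcp ⊤ (fun _ _ => trivial)
        (fun _ _ => trivial) (fun w _ => hfreeE c c.2 (fun h => hc1' (Subtype.ext h)) w)
        (AddSubgroup.mem_top v)]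
      refine Finset.sum_eq_zero fun i _ => ?_
      refine hfreeE _ (mul_mem u.2 (pow_mem c.2 i)) (fun h => huc ?_) _ (smul_nrm ?_ v)
      · have h2 : u * c ^ i = 1 := Subtype.ext h
        rw [eq_inv_of_mul_eq_one_left h2]
        exact inv_mem (Subgroup.pow_mem _ (Subgroup.mem_zpowers c) i)
      · rw [(hEc u u.2 _ (pow_mem c.2 i)).mul_pow, ← pow_mul, mul_comm, pow_mul, hcp,
          show (u : H) ^ p = 1 from congrArg Subtype.val (hWe.2 u hu), one_pow, one_mul]
    set H0 := MulAction.stabilizer H M1 with hH0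
    obtain ⟨w, hw, hwf⟩ := hIH (fixS V M1.1) hW H0 (fun h hh x hx => by
      have h1 : (h • M1).1 = M1.1 := congrArg Subtype.val (MulAction.mem_stabilizer_iff.1 hh)
      rw [← h1, hsval, hfixcj, inv_smul_smul]
      exact hx) (hfixed M1) hM1
    have ht : ∀ M : S0, ∃ t : H, t • M1 = M := fun M => by
      obtain ⟨h, hh⟩ := M.2
      obtain ⟨h', hh'⟩ := M1.2
      exact ⟨h * h'⁻¹, Subtype.ext (by rw [hsval, ← hh', ← hcjm, inv_mul_cancel_right, hh])⟩
    choose t ht using ht
    have htw : ∀ M : S0, t M • w ∈ fixS V M.1 := fun M => by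
      rw [← congrArg Subtype.val (ht M), hsval, hfixcj, inv_smul_smul]
      exact hw
    refine ⟨∑ M, t M • w, fun h e => ?_⟩
    set b := h * a * h⁻¹ with hb
    have hbfix : ∀ M : S0, b • M = M := fun M => by rw [hb, mul_smul, mul_smul, hfixed, smul_inv_smul]
    have h1 := hindep (fun M => b • (t M • w)) (fun M => t M • w) (fun M => by
      show b • (t M • w) ∈ fixS V M.1
      rw [← congrArg Subtype.val (hbfix M), hsval, hfixcj, inv_smul_smul]
      exact htw M) htw (by rw [← Finset.smul_sum]; exact e) (h • M1)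
    have h2 : (t (h • M1))⁻¹ * h ∈ H0 := by
      rw [hH0, MulAction.mem_stabilizer_iff, mul_smul]
      refine MulAction.injective (t (h • M1)) ?_
      show t (h • M1) • ((t (h • M1))⁻¹ • h • M1) = t (h • M1) • M1
      rw [smul_inv_smul, ht]
    refine hwf _ h2 ?_
    calc (((t (h • M1))⁻¹ * h) * a * ((t (h • M1))⁻¹ * h)⁻¹) • w
        = (t (h • M1))⁻¹ • (b • (t (h • M1) • w)) := by rw [hb, smul_smul, smul_smul]; group
      _ = w := by rw [h1, inv_smul_smul]
  · -- `a` moves some fixed space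
    push Not at hfixed
    obtain ⟨M1, hM1⟩ := hfixed
    have hodd : Odd (Nat.card P) := by
      obtain ⟨k, hk⟩ := IsPGroup.iff_card.1 hP
      rw [hk]
      exact (hp.out.odd_of_ne_two hp2).pow
    obtain ⟨B, hB⟩ := exists_subset (α := S0) hodd hP.isNilpotent _ (⊤ : Subgroup P) Set.univ le_rfl
      (fun _ _ _ _ => trivial)
    have hwM : ∀ M : S0, ∃ x ∈ fixS V M.1, x ≠ 0 := fun M => by
      by_contra h
      push Not at h
      exact (hT M).2.1 ((AddSubgroup.eq_bot_iff_forall _).2 h)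
    choose w hw hw0 using hwM
    refine ⟨∑ M, if M ∈ B then w M else 0, fun h e => ?_⟩
    set b := h * a * h⁻¹ with hb
    have hbP : b ∈ P := hPn.conj_mem a ha h
    let f : S0 → V := fun M => if b⁻¹ • M ∈ B then b • w (b⁻¹ • M) else 0
    have hsum : ∑ M, f M = ∑ M, (if M ∈ B then w M else 0) := by
      refine Eq.trans ?_ e
      rw [Finset.smul_sum]
      refine (Fintype.sum_equiv (MulAction.toPerm b) _ _ fun M => ?_).symm
      simp only [f, MulAction.toPerm_apply, inv_smul_smul]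
      split <;> simp
    have h1 := hindep f (fun M => if M ∈ B then w M else 0) (fun M => by
      simp only [f]
      split
      · have h2 := hw (b⁻¹ • M)
        rw [hsval, hfixcj, inv_inv] at h2
        exact h2
      · exact zero_mem _) (fun M => by split; exacts [hw M, zero_mem _]) hsum
    have hiff : ∀ M : S0, b • M ∈ B ↔ M ∈ B := fun M => by
      have h2 := h1 (b • M)
      simp only [f, inv_smul_smul] at h2
      constructor
      · intro h3
        by_contra h4
        rw [if_neg h4, if_pos h3] at h2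
        exact hw0 _ h2.symm
      · intro h3
        by_contra h4
        rw [if_pos h3, if_neg h4, smul_eq_zero_iff_eq] at h2
        exact hw0 _ h2
    have h3 := hB ⟨b, hbP⟩ trivial (fun M _ => hiff M) (h • M1) trivial
    refine hM1 (MulAction.injective h ?_)
    show h • (a • M1) = h • M1
    calc h • (a • M1) = b • (h • M1) := by rw [hb, smul_smul, smul_smul, inv_mul_cancel_right]
      _ = h • M1 := h3

end cases

/-- Some vector is moved by all conjugates of `a`. -/
theorem exists_moved_aux [hp : Fact p.Prime] (hp2 : p ≠ 2) : ∀ (n : ℕ) (V : Type v) [AddCommGroup V] [Finite V],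
    Nat.card V ≤ n → ∀ (H : Type u) [Group H] [Finite H] [DistribMulAction H V], (Nat.card V).Coprime p →
      ∀ P : Subgroup H, P.Normal → (∀ x ∈ P, ∃ k : ℕ, ∀ v : V, x ^ p ^ k • v = v) →
        ∀ a ∈ P, (∃ v : V, a • v ≠ v) → ∃ v : V, ∀ h : H, (h * a * h⁻¹) • v ≠ v := by
  intro n
  induction n with
  | zero => intro V _ _ hn; have := Nat.card_pos (α := V); omega
  | succ n ih =>
    intro V _ _ hn H _ _ _ hco P hPn hP a ha hmove
    -- an invariant subgroup
    by_cases hred : ∃ U : AddSubgroup V, (∀ (h : H), ∀ v ∈ U, h • v ∈ U) ∧ U ≠ ⊥ ∧ U ≠ ⊤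
    · obtain ⟨U, hUi, hU0, hU1⟩ := hred
      by_cases haU : ∃ w ∈ U, a • w ≠ w
      · letI : DistribMulAction H U :=
          { smul := fun h w => ⟨h • (w : V), hUi h w w.2⟩
            one_smul := fun w => Subtype.ext (one_smul H (w : V))
            mul_smul := fun g h w => Subtype.ext (mul_smul g h (w : V))
            smul_zero := fun h => Subtype.ext (smul_zero h)
            smul_add := fun h x y => Subtype.ext (smul_add h (x : V) y) }
        have hlt : Nat.card U < Nat.card V := by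
          refine lt_of_le_of_ne (Nat.card_le_card_of_injective _ Subtype.val_injective) fun e => hU1 ?_
          exact AddSubgroup.eq_top_of_card_eq U e
        obtain ⟨w, hw⟩ := ih U (by omega) H (hco.coprime_dvd_left (AddSubgroup.card_addSubgroup_dvd_card U))
          P hPn (fun x hx => by
            obtain ⟨k, hk⟩ := hP x hx
            exact ⟨k, fun v => Subtype.ext (hk v)⟩) a ha (by
            obtain ⟨w, hw, hwn⟩ := haU
            exact ⟨⟨w, hw⟩, fun e => hwn (congrArg Subtype.val e)⟩)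
        exact ⟨w, fun h e => hw h (Subtype.ext e)⟩
      · push Not at haU
        letI : DistribMulAction H (V ⧸ U) :=
          { smul := fun h => QuotientAddGroup.map U U (DistribMulAction.toAddMonoidHom V h) (fun v hv => hUi h v hv)
            one_smul := fun q => by
              refine QuotientAddGroup.induction_on q fun v => ?_
              show ((((1 : H) • v : V)) : V ⧸ U) = _
              rw [one_smul]
            mul_smul := fun g h q => by
              refine QuotientAddGroup.induction_on q fun v => ?_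
              show (((g * h) • v : V) : V ⧸ U) = ((g • h • v : V) : V ⧸ U)
              rw [mul_smul]
            smul_zero := fun h => map_zero
              (QuotientAddGroup.map U U (DistribMulAction.toAddMonoidHom V h) fun v hv => hUi h v hv)
            smul_add := fun h => map_add
              (QuotientAddGroup.map U U (DistribMulAction.toAddMonoidHom V h) fun v hv => hUi h v hv) }
        have hsm : ∀ (h : H) (v : V), h • ((v : V ⧸ U)) = ((h • v : V) : V ⧸ U) := fun _ _ => rfl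
        have hlt : Nat.card (V ⧸ U) < Nat.card V := by
          rw [AddSubgroup.card_eq_card_quotient_mul_card_addSubgroup U]
          exact lt_mul_of_one_lt_right Nat.card_pos ((AddSubgroup.one_lt_card_iff_ne_bot U).2 hU0)
        have hmove' : ∃ q : V ⧸ U, a • q ≠ q := by
          by_contra hall
          push Not at hall
          obtain ⟨v, hv⟩ := hmove
          obtain ⟨k, hk⟩ := hP a ha
          have hd : a • v - v ∈ U := (QuotientAddGroup.eq_iff_sub_mem).1 ((hsm a v).symm.trans (hall v))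
          have hpow : ∀ j : ℕ, a ^ j • v = v + j • (a • v - v) := fun j => by
            induction j with
            | zero => simp
            | succ j ihj =>
              rw [pow_succ', mul_smul, ihj, smul_add, haU _ (nsmul_mem hd j), succ_nsmul]
              abel
          have h1 := hpow (p ^ k)
          rw [hk v, left_eq_add] at h1
          have h2 : addOrderOf (a • v - v) = 1 := Nat.eq_one_of_dvd_coprimes (hco.pow_right k)
            (addOrderOf_dvd_natCard _) (addOrderOf_dvd_of_nsmul_eq_zero h1)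
          exact hv (sub_eq_zero.1 (AddMonoid.addOrderOf_eq_one_iff.1 h2))
        obtain ⟨q, hq⟩ := ih (V ⧸ U) (by omega) H
          (hco.coprime_dvd_left ⟨Nat.card U, AddSubgroup.card_eq_card_quotient_mul_card_addSubgroup U⟩)
          P hPn (fun x hx => by
            obtain ⟨k, hk⟩ := hP x hx
            refine ⟨k, fun q => ?_⟩
            induction q using QuotientAddGroup.induction_on with
            | H v => rw [hsm, hk v]) a ha hmove'
        induction q using QuotientAddGroup.induction_on with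
        | H v => exact ⟨v, fun h e => hq h (by rw [hsm, e])⟩
    push Not at hred
    have hirr : ∀ U : AddSubgroup V, (∀ (h : H), ∀ v ∈ U, h • v ∈ U) → U = ⊥ ∨ U = ⊤ := fun U hU =>
      or_iff_not_imp_left.2 (hred U hU)
    -- the faithful quotient
    set K := (MulAction.toPermHom H V).ker with hK
    have hKm : ∀ h : H, h ∈ K ↔ ∀ v : V, h • v = v := fun h => by
      rw [hK, MonoidHom.mem_ker]
      exact ⟨fun e v => Equiv.congr_fun e v, fun e => Equiv.ext e⟩
    let ψ : H ⧸ K →* Equiv.Perm V := QuotientGroup.lift K (MulAction.toPermHom H V) (le_of_eq rfl)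
    letI : DistribMulAction (H ⧸ K) V :=
      { smul := fun q v => ψ q v
        one_smul := fun v => by show ψ 1 v = v; rw [map_one]; rfl
        mul_smul := fun g h v => by show ψ (g * h) v = ψ g (ψ h v); rw [map_mul]; rfl
        smul_zero := fun q => by
          refine QuotientGroup.induction_on q fun h => ?_
          exact smul_zero h
        smul_add := fun q x y => by
          refine QuotientGroup.induction_on q fun h => ?_
          exact smul_add h x y }
    have hsm : ∀ (h : H) (v : V), (h : H ⧸ K) • v = h • v := fun _ _ => rfl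
    set π := QuotientGroup.mk' K with hπ
    have hfaith : ∀ q : H ⧸ K, (∀ v : V, q • v = v) → q = 1 := fun q hq => by
      induction q using QuotientGroup.induction_on with
      | H h => exact (QuotientGroup.eq_one_iff h).2 ((hKm h).2 hq)
    have hirr' : ∀ U : AddSubgroup V, (∀ (q : H ⧸ K), ∀ v ∈ U, q • v ∈ U) → U = ⊥ ∨ U = ⊤ :=
      fun U hU => hirr U fun h v hv => hU h v hv
    set P' := P.map π with hP'
    have hP'n : P'.Normal := hPn.map π (QuotientGroup.mk'_surjective K)
    have hP'p : IsPGroup p P' := by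
      rintro ⟨_, x, hx, rfl⟩
      obtain ⟨k, hk⟩ := hP x hx
      exact ⟨k, Subtype.ext ((map_pow π x _).symm.trans ((QuotientGroup.eq_one_iff _).2 ((hKm _).2 hk)))⟩
    have hne : π a ≠ 1 := fun e => by
      obtain ⟨v, hv⟩ := hmove
      exact hv ((hKm a).1 ((QuotientGroup.eq_one_iff a).1 e) v)
    obtain ⟨j, hj⟩ := IsPGroup.iff_orderOf.1 hP'p ⟨π a, a, ha, rfl⟩
    replace hj : orderOf (π a) = p ^ j := (Subgroup.orderOf_coe (⟨π a, a, ha, rfl⟩ : P')).trans hj
    have hj0 : j ≠ 0 := by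
      rintro rfl
      rw [pow_zero, orderOf_eq_one_iff] at hj
      exact hne hj
    set b := π a ^ p ^ (j - 1) with hb
    have hbo : orderOf b = p := by
      rw [hb, orderOf_pow_of_dvd (pow_ne_zero _ hp.out.ne_zero) (hj ▸ pow_dvd_pow p (by omega)), hj,
        Nat.pow_div (by omega) hp.out.pos, show j - (j - 1) = 1 by omega, pow_one]
    have hbP : b ∈ P' := pow_mem (show π a ∈ P' from ⟨a, ha, rfl⟩) _
    have hbmove : ∃ v : V, b • v ≠ v := by
      by_contra h
      push Not at h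
      rw [hfaith b h, orderOf_one] at hbo
      exact hp.out.ne_one hbo.symm
    suffices hmain : ∃ v : V, ∀ q : H ⧸ K, (q * b * q⁻¹) • v ≠ v by
      obtain ⟨v, hv⟩ := hmain
      refine ⟨v, fun h e => hv (h : H ⧸ K) ?_⟩
      rw [hb, ← conj_pow]
      exact pow_smul_of_fix (show ((h : H ⧸ K) * π a * (h : H ⧸ K)⁻¹) • v = v from e) _
    by_cases hcyc : ∀ E : Subgroup (H ⧸ K), E ≤ P' → E.Normal → (∀ x ∈ E, ∀ y ∈ E, Commute x y) → IsCyclic E
    · exact case_cyclic hfaith hirr' hco hp2 hP'n hP'p hbP hbo hcyc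
    push Not at hcyc
    obtain ⟨E, hEP, hEn, hEc, hnc⟩ := hcyc
    refine case_noncyclic hfaith hirr' hco hp2 hP'n hP'p hbP hEP hEn hEc hnc hbmove ?_
    intro W hW H0 hWi hbH0 hWmove
    letI : DistribMulAction H0 W :=
      { smul := fun h w => ⟨(h : H ⧸ K) • (w : V), hWi h h.2 w w.2⟩
        one_smul := fun w => Subtype.ext (one_smul (H ⧸ K) (w : V))
        mul_smul := fun g h w => Subtype.ext (mul_smul (g : H ⧸ K) (h : H ⧸ K) (w : V))
        smul_zero := fun h => Subtype.ext (smul_zero (h : H ⧸ K))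
        smul_add := fun h x y => Subtype.ext (smul_add (h : H ⧸ K) (x : V) y) }
    have hlt : Nat.card W < Nat.card V := by
      refine lt_of_le_of_ne (Nat.card_le_card_of_injective _ Subtype.val_injective) fun e => hW ?_
      exact AddSubgroup.eq_top_of_card_eq W e
    haveI := hP'n
    obtain ⟨w, hw⟩ := ih W (by omega) H0 (hco.coprime_dvd_left (AddSubgroup.card_addSubgroup_dvd_card W))
      (P'.subgroupOf H0) inferInstance (fun x hx => by
        obtain ⟨k, hk⟩ := hP'p ⟨x, hx⟩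
        refine ⟨k, fun w => Subtype.ext ?_⟩
        show ((x ^ p ^ k : H0) : H ⧸ K) • (w : V) = w
        rw [SubmonoidClass.coe_pow, show (x : H ⧸ K) ^ p ^ k = 1 from congrArg Subtype.val hk, one_smul])
      ⟨b, hbH0⟩ hbP (by
        obtain ⟨w, hw, hwn⟩ := hWmove
        exact ⟨⟨w, hw⟩, fun e => hwn (congrArg Subtype.val e)⟩)
    exact ⟨w, w.2, fun h hh e => hw ⟨h, hh⟩ (Subtype.ext e)⟩

/-- If every vector is fixed by some conjugate of `a`, then `a` acts trivially. -/
theorem smul_eq_of_all_fixed [hp : Fact p.Prime] (hp2 : p ≠ 2)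
    (hco : (Nat.card V).Coprime p) (P : Subgroup H) (hPn : P.Normal)
    (hP : ∀ x ∈ P, ∃ k : ℕ, ∀ v : V, x ^ p ^ k • v = v) {a : H} (ha : a ∈ P)
    (hall : ∀ v : V, ∃ h : H, (h * a * h⁻¹) • v = v) (v : V) : a • v = v := by
  by_contra hv
  obtain ⟨w, hw⟩ := exists_moved_aux hp2 _ V le_rfl H hco P hPn hP a ha ⟨v, hv⟩
  obtain ⟨h, hh⟩ := hall w
  exact hw h hh

end Cfsg.Agent.Perm.NoFixConj
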