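import Mathlib.GroupTheory.PGroup
import Mathlib.GroupTheory.Commutator.Basic
import Mathlib.Combinatorics.Enumerative.DoubleCounting
import Mathlib.Algebra.BigOperators.Group.Finset.Basic
import Mathlib.Algebra.Group.Action.Defs
import Mathlib.GroupTheory.GroupAction.Basic
import Mathlib.Tactic

/-!
Fixed spaces in the action of a group of exponent `p` and class two on a coprime abelian group.
-/

set_option autoImplicit false
set_option linter.style.haveILetI false
set_option linter.unusedSectionVars false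

open scoped commutatorElement

namespace Cfsg.Agent.Perm.NoFixConj

universe u v

variable {H : Type u} [Group H] {V : Type v} [AddCommGroup V] [DistribMulAction H V] {p : ℕ}

/-- The fixed space of one element. -/
def fix (V : Type v) [AddCommGroup V] [DistribMulAction H V] (r : H) : AddSubgroup V where
  carrier := {v | r • v = v}
  add_mem' {a b} ha hb := by
    show r • (a + b) = a + b
    rw [smul_add, ha, hb]
  zero_mem' := smul_zero r
  neg_mem' {a} ha := by
    show r • (-a) = -a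
    rw [smul_neg, ha]

theorem mem_fix {r : H} {v : V} : v ∈ fix V r ↔ r • v = v := Iff.rfl

/-- The sum of the translates under the first `p` powers. -/
def nrm (p : ℕ) (r : H) (x : V) : V := ∑ k ∈ Finset.range p, r ^ k • x

theorem smul_nrm {r : H} (hr : r ^ p = 1) (x : V) : r • nrm p r x = nrm p r x := by
  unfold nrm
  rw [Finset.smul_sum]
  simp only [smul_smul, ← pow_succ']
  have h := (Finset.sum_range_succ (fun k => r ^ k • x) p).symm.trans (Finset.sum_range_succ' _ p)
  rw [hr, pow_zero] at h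
  exact (add_right_cancel h).symm

theorem pow_smul_of_fix {r : H} {x : V} (h : r • x = x) (k : ℕ) : r ^ k • x = x := by
  induction k with
  | zero => rw [pow_zero, one_smul]
  | succ k ih => rw [pow_succ, mul_smul, h, ih]

theorem nrm_of_fix {r : H} {x : V} (h : r • x = x) : nrm p r x = p • x := by
  unfold nrm
  rw [Finset.sum_congr rfl fun k _ => pow_smul_of_fix h k, Finset.sum_const, Finset.card_range]

theorem nrm_mem {r : H} (W : AddSubgroup V) (hW : ∀ w ∈ W, r • w ∈ W) {x : V} (hx : x ∈ W) : nrm p r x ∈ W := by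
  refine sum_mem fun k hk => ?_
  clear hk
  induction k with
  | zero => rwa [pow_zero, one_smul]
  | succ k ih => rw [pow_succ', mul_smul]; exact hW _ ih

theorem eq_zero_of_nsmul (hco : (Nat.card V).Coprime p) {x : V} (h : p • x = 0) : x = 0 := by
  rw [← AddMonoid.addOrderOf_eq_one_iff]
  exact Nat.eq_one_of_dvd_coprimes hco (addOrderOf_dvd_natCard x) (addOrderOf_dvd_of_nsmul_eq_zero h)

theorem exists_pow_pow [hp : Fact p.Prime] {c : H} (hc : c ^ p = 1) {d : ℕ} (hd : ¬ p ∣ d) :
    ∃ i : ℕ, (c ^ d) ^ i = c := by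
  by_cases hc1 : c = 1
  · exact ⟨1, by rw [hc1, one_pow, one_pow]⟩
  exact exists_pow_eq_self_of_coprime (by
    rw [orderOf_eq_prime hc hc1]
    exact (hp.out.coprime_iff_not_dvd.2 hd).symm)

theorem fix_pow [hp : Fact p.Prime] {c : H} (hc : c ^ p = 1) {d : ℕ} (hd : ¬ p ∣ d) {x : V}
    (h : c ^ d • x = x) : c • x = x := by
  obtain ⟨i, hi⟩ := exists_pow_pow hc hd
  conv_lhs => rw [← hi]
  exact pow_smul_of_fix h i

theorem nrm_eq_zero [hp : Fact p.Prime] {c : H} (hc : c ^ p = 1) (W : AddSubgroup V)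
    (hW : ∀ w ∈ W, c • w ∈ W) (hfree : ∀ w ∈ W, c • w = w → w = 0) {d : ℕ} (hd : ¬ p ∣ d) {x : V}
    (hx : x ∈ W) : nrm p (c ^ d) x = 0 := by
  have hW' : ∀ (k : ℕ), ∀ w ∈ W, c ^ k • w ∈ W := fun k => by
    induction k with
    | zero => intro w hw; rwa [pow_zero, one_smul]
    | succ k ih => intro w hw; rw [pow_succ, mul_smul]; exact ih _ (hW w hw)
  refine hfree _ (nrm_mem W (hW' d) hx) (fix_pow hc hd (smul_nrm ?_ x))
  rw [← pow_mul, mul_comm, pow_mul, hc, one_pow]

/-- The identity behind the decomposition along the lines of `⟨u, c⟩`. -/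
theorem sum_nrm [hp : Fact p.Prime] {u c : H} (huc : Commute u c) (hc : c ^ p = 1) (W : AddSubgroup V)
    (hW : ∀ w ∈ W, c • w ∈ W) (hWu : ∀ w ∈ W, u • w ∈ W) (hfree : ∀ w ∈ W, c • w = w → w = 0)
    {x : V} (hx : x ∈ W) : ∑ i ∈ Finset.range p, nrm p (u * c ^ i) x = p • x := by
  have hu : ∀ k : ℕ, ∀ w ∈ W, u ^ k • w ∈ W := fun k => by
    induction k with
    | zero => intro w hw; rwa [pow_zero, one_smul]
    | succ k ih => intro w hw; rw [pow_succ, mul_smul]; exact ih _ (hWu w hw)
  have h1 : ∀ i k : ℕ, (u * c ^ i) ^ k • x = (c ^ k) ^ i • (u ^ k • x) := fun i k => by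
    rw [(huc.pow_right i).mul_pow, ← pow_mul, mul_comm i k, pow_mul, ((huc.pow_pow k k).pow_right i).eq,
      mul_smul]
  unfold nrm
  simp only [h1]
  rw [Finset.sum_comm, ← Finset.add_sum_erase _ _ (Finset.mem_range.2 hp.out.pos)]
  rw [Finset.sum_eq_zero (s := (Finset.range p).erase 0) fun k hk => ?_, add_zero]
  · simp
  · rw [Finset.mem_erase, Finset.mem_range] at hk
    exact nrm_eq_zero hc W hW hfree (fun h => hk.1 (Nat.eq_zero_of_dvd_of_lt h hk.2)) (hu k x hx)

theorem conj_pow_eq {v u c : H} (h : v * u * v⁻¹ = c * u) (hc : Commute v c) (i : ℕ) :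
    v ^ i * u * (v ^ i)⁻¹ = c ^ i * u := by
  induction i with
  | zero => simp
  | succ i ih =>
    calc v ^ (i + 1) * u * (v ^ (i + 1))⁻¹ = v ^ i * (v * u * v⁻¹) * (v ^ i)⁻¹ := by rw [pow_succ]; group
      _ = v ^ i * c * u * (v ^ i)⁻¹ := by rw [h]; group
      _ = c * (v ^ i * u * (v ^ i)⁻¹) := by rw [(hc.pow_left i).eq]; group
      _ = c ^ (i + 1) * u := by rw [ih, ← mul_assoc, pow_succ']

/-- The fixed space of `u` in `W` is nonzero and its `p` translates under `v` are independent. -/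
theorem fix_split [Finite V] [hp : Fact p.Prime] (hco : (Nat.card V).Coprime p) {u v c : H}
    (h : v * u * v⁻¹ = c * u) (hu : Commute u c) (hv : Commute v c) (hup : u ^ p = 1) (hc : c ^ p = 1)
    (W : AddSubgroup V) (hW0 : W ≠ ⊥) (hWc : ∀ w ∈ W, c • w ∈ W) (hWu : ∀ w ∈ W, u • w ∈ W)
    (hWv : ∀ w ∈ W, v • w ∈ W) (hfree : ∀ w ∈ W, c • w = w → w = 0) :
    fix V u ⊓ W ≠ ⊥ ∧ Nat.card (fix V u ⊓ W : AddSubgroup V) ^ p ≤ Nat.card W := by
  classical
  have hWc' : ∀ (k : ℕ), ∀ w ∈ W, c ^ k • w ∈ W := fun k => by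
    induction k with
    | zero => intro w hw; rwa [pow_zero, one_smul]
    | succ k ih => intro w hw; rw [pow_succ, mul_smul]; exact ih _ (hWc w hw)
  have hWv' : ∀ (k : ℕ), ∀ w ∈ W, v ^ k • w ∈ W := fun k => by
    induction k with
    | zero => intro w hw; rwa [pow_zero, one_smul]
    | succ k ih => intro w hw; rw [pow_succ, mul_smul]; exact ih _ (hWv w hw)
  have hshift : ∀ (i : ℕ) (x : V), (u * c ^ i) • (v ^ i • x) = v ^ i • (u • x) := fun i x => by
    rw [smul_smul, smul_smul, (hu.pow_right i).eq, ← conj_pow_eq h hv i, inv_mul_cancel_right]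
  constructor
  · intro hbot
    refine hW0 ((AddSubgroup.eq_bot_iff_forall _).2 fun x hx => eq_zero_of_nsmul hco ?_)
    rw [← sum_nrm hu hc W hWc hWu hfree hx]
    refine Finset.sum_eq_zero fun i _ => ?_
    have hmem : ∀ w ∈ W, (u * c ^ i) • w ∈ W := fun w hw => by
      rw [mul_smul]; exact hWu _ (hWc' i w hw)
    set y := nrm p (u * c ^ i) x
    have hy : y ∈ W := nrm_mem W hmem hx
    have hyf : (u * c ^ i) • y = y := smul_nrm (by
      rw [(hu.pow_right i).mul_pow, hup, one_mul, ← pow_mul, mul_comm, pow_mul, hc, one_pow]) x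
    -- pull back along the bijection `v ^ i` of `W`
    have hbij : Function.Surjective (fun w : W => (⟨v ^ i • (w : V), hWv' i w w.2⟩ : W)) :=
      Finite.injective_iff_surjective.1 fun a b hab =>
        Subtype.ext (MulAction.injective (v ^ i) (congrArg Subtype.val hab))
    obtain ⟨⟨w, hw⟩, hwy⟩ := hbij ⟨y, hy⟩
    have hwy' : v ^ i • w = y := congrArg Subtype.val hwy
    have hwf : u • w = w := MulAction.injective (v ^ i) (by
      show v ^ i • (u • w) = v ^ i • w
      rw [← hshift, hwy', hyf])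
    have hw0 : w = 0 := (AddSubgroup.eq_bot_iff_forall _).1 hbot w ⟨hwf, hw⟩
    rw [← hwy', hw0, smul_zero]
  · set C := (fix V u ⊓ W : AddSubgroup V)
    let f : (Fin p → C) → W := fun g => ⟨∑ i : Fin p, v ^ (i : ℕ) • (g i : V),
      sum_mem fun i _ => hWv' i _ (g i).2.2⟩
    have hinj : Function.Injective f := by
      intro g g' hgg
      funext j
      have key : ∀ g : Fin p → C, nrm p (u * c ^ (j : ℕ)) (∑ i : Fin p, v ^ (i : ℕ) • (g i : V)) =
          p • (v ^ (j : ℕ) • (g j : V)) := by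
        intro g
        have hadd : nrm p (u * c ^ (j : ℕ)) (∑ i : Fin p, v ^ (i : ℕ) • (g i : V)) =
            ∑ i : Fin p, nrm p (u * c ^ (j : ℕ)) (v ^ (i : ℕ) • (g i : V)) := by
          unfold nrm
          simp only [Finset.smul_sum]
          exact Finset.sum_comm
        rw [hadd, Finset.sum_eq_single j]
        · exact nrm_of_fix (by rw [hshift, (g j).2.1])
        · intro i _ hij
          have hfi : (u * c ^ (i : ℕ)) • (v ^ (i : ℕ) • (g i : V)) = v ^ (i : ℕ) • (g i : V) := by
            rw [hshift, (g i).2.1]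
          set d : ℕ := (j : ℕ) + p - (i : ℕ) with hd
          have hdp : ¬ p ∣ d := by
            intro hdd
            obtain ⟨t, ht⟩ := hdd
            have hi := i.2
            have hj := j.2
            rcases t with _ | _ | t
            · omega
            · exact hij (Fin.ext (by omega))
            · have : 2 * p ≤ p * (t + 1 + 1) := by
                rw [mul_comm 2 p]; exact Nat.mul_le_mul_left p (by omega)
              omega
          have heq : u * c ^ (j : ℕ) = c ^ d * (u * c ^ (i : ℕ)) := by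
            rw [← mul_assoc, ← (hu.pow_right d).eq, mul_assoc, ← pow_add,
              show d + (i : ℕ) = (j : ℕ) + p by omega, pow_add, hc, mul_one]
          have hnd := nrm_eq_zero hc W hWc hfree hdp (hWv' i _ (g i).2.2)
          unfold nrm at hnd ⊢
          rw [← hnd]
          refine Finset.sum_congr rfl fun k _ => ?_
          rw [heq, (((hu.pow_right d).symm.mul_right ((Commute.refl c).pow_pow d _))).mul_pow,
            mul_smul, pow_smul_of_fix hfi]
        · simp
      have h2 : p • (v ^ (j : ℕ) • (g j : V) - v ^ (j : ℕ) • (g' j : V)) = 0 := by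
        have hgg' : (∑ i : Fin p, v ^ (i : ℕ) • (g i : V)) = ∑ i : Fin p, v ^ (i : ℕ) • (g' i : V) :=
          congrArg Subtype.val hgg
        rw [nsmul_sub, ← key g, ← key g', hgg', sub_self]
      exact Subtype.ext (MulAction.injective (v ^ (j : ℕ)) (sub_eq_zero.1 (eq_zero_of_nsmul hco h2)))
    have := Nat.card_le_card_of_injective f hinj
    rwa [Nat.card_fun, Nat.card_fin] at this

variable [Finite H] [Finite V]

/-- A group of exponent `p` whose commutators lie in `⟨z⟩`, the centre. -/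
structure Extra (p : ℕ) (z : H) (S : Subgroup H) : Prop where
  ord : orderOf z = p
  mem : z ∈ S
  pow : ∀ x ∈ S, x ^ p = 1
  comm : ∀ x ∈ S, ∀ y ∈ S, ⁅x, y⁆ ∈ Subgroup.zpowers z
  central : ∀ x ∈ S, Commute x z
  center : ∀ x ∈ S, (∀ y ∈ S, Commute x y) → x ∈ Subgroup.zpowers z

namespace Extra

variable [hp : Fact p.Prime] {z : H} {S : Subgroup H} (E : Extra p z S)
include E

theorem card_z : Nat.card (Subgroup.zpowers z) = p := by rw [Nat.card_zpowers, E.ord]

theorem commute_z {c y : H} (hc : c ∈ Subgroup.zpowers z) (hy : y ∈ S) : Commute y c := by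
  obtain ⟨i, rfl⟩ := Subgroup.mem_zpowers_iff.1 hc
  exact (E.central y hy).zpow_right i

theorem mem_powers {c d : H} (hc : c ∈ Subgroup.zpowers z) (hc1 : c ≠ 1) (hd : d ∈ Subgroup.zpowers z) :
    ∃ i : ℕ, c ^ i = d := by
  have h1 : Subgroup.zpowers c = Subgroup.zpowers z :=
    Subgroup.eq_of_le_of_card_ge (Subgroup.zpowers_le.2 hc) (by
      rw [Nat.card_zpowers, Nat.card_zpowers, E.ord]
      exact (orderOf_eq_prime (E.pow c (Subgroup.zpowers_le.2 E.mem hc)) hc1).ge)
  have h2 : d ∈ Subgroup.zpowers c := h1.symm ▸ hd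
  exact Submonoid.mem_powers_iff _ _ |>.1 ((isOfFinOrder_of_finite c).mem_powers_iff_mem_zpowers.2 h2)

theorem free {c : H} (hc : c ∈ Subgroup.zpowers z) (hc1 : c ≠ 1) (W : AddSubgroup V)
    (hfree : ∀ w ∈ W, z • w = w → w = 0) : ∀ w ∈ W, c • w = w → w = 0 := by
  intro w hw h
  obtain ⟨i, hi⟩ := E.mem_powers hc hc1 (Subgroup.mem_zpowers z)
  exact hfree w hw (by rw [← hi]; exact pow_smul_of_fix h i)

theorem pow_z {c : H} (hc : c ∈ Subgroup.zpowers z) : c ^ p = 1 := E.pow c (Subgroup.zpowers_le.2 E.mem hc)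

/-- The centralizer of a noncommuting pair. -/
theorem reduce {u v : H} (hu : u ∈ S) (hv : v ∈ S) (huv : ⁅v, u⁆ ≠ 1) :
    Extra p z (S ⊓ Subgroup.centralizer {u, v}) ∧
      Nat.card S ≤ p * p * Nat.card (S ⊓ Subgroup.centralizer {u, v} : Subgroup H) := by
  classical
  set S' := S ⊓ Subgroup.centralizer {u, v} with hS'
  have hmem : ∀ x : H, x ∈ S' ↔ x ∈ S ∧ Commute x u ∧ Commute x v := fun x => by
    rw [hS', Subgroup.mem_inf, Subgroup.mem_centralizer_iff]
    constructor
    · exact fun h => ⟨h.1, (h.2 u (by simp)).symm, (h.2 v (by simp)).symm⟩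
    · rintro ⟨h1, h2, h3⟩
      refine ⟨h1, ?_⟩
      rintro y (rfl | rfl)
      exacts [h2.symm, h3.symm]
  set c := ⁅v, u⁆ with hcdef
  have hcz : c ∈ Subgroup.zpowers z := E.comm v hv u hu
  have hvu : v * u * v⁻¹ = c * u := by rw [hcdef, commutatorElement_def]; group
  refine ⟨⟨E.ord, (hmem z).2 ⟨E.mem, (E.central u hu).symm, (E.central v hv).symm⟩,
    fun x hx => E.pow x ((hmem x).1 hx).1, fun x hx y hy => E.comm x ((hmem x).1 hx).1 y ((hmem y).1 hy).1,
    fun x hx => E.central x ((hmem x).1 hx).1, fun x hx hxc => ?_⟩, ?_⟩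
  · obtain ⟨hxS, hxu, hxv⟩ := (hmem x).1 hx
    refine E.center x hxS fun y hy => ?_
    obtain ⟨α, hα⟩ := E.mem_powers hcz huv (E.comm y hy u hu)
    set y1 := (v ^ α)⁻¹ * y with hy1
    have hy1S : y1 ∈ S := mul_mem (inv_mem (pow_mem hv α)) hy
    have hy1u : y1 * u * y1⁻¹ = u := by
      have h1 : y * u * y⁻¹ = c ^ α * u := by rw [hα, commutatorElement_def]; group
      calc y1 * u * y1⁻¹ = (v ^ α)⁻¹ * (y * u * y⁻¹) * v ^ α := by rw [hy1]; group
        _ = (v ^ α)⁻¹ * (v ^ α * u * (v ^ α)⁻¹) * v ^ α := by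
          rw [h1, conj_pow_eq hvu (E.commute_z hcz hv) α]
        _ = u := by group
    have hc' : c⁻¹ ∈ Subgroup.zpowers z := inv_mem hcz
    obtain ⟨β, hβ⟩ := E.mem_powers hc' (fun h => huv (inv_eq_one.1 h)) (E.comm y1 hy1S v hv)
    set y2 := (u ^ β)⁻¹ * y1 with hy2
    have huv' : u * v * u⁻¹ = c⁻¹ * v := by rw [hcdef, commutatorElement_def]; group
    have hy2v : y2 * v * y2⁻¹ = v := by
      have h1 : y1 * v * y1⁻¹ = c⁻¹ ^ β * v := by rw [hβ, commutatorElement_def]; group
      calc y2 * v * y2⁻¹ = (u ^ β)⁻¹ * (y1 * v * y1⁻¹) * u ^ β := by rw [hy2]; group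
        _ = (u ^ β)⁻¹ * (u ^ β * v * (u ^ β)⁻¹) * u ^ β := by
          rw [h1, conj_pow_eq huv' (E.commute_z hcz hu).inv_right β]
        _ = v := by group
    have hy2u : y2 * u * y2⁻¹ = u := by
      calc y2 * u * y2⁻¹ = (u ^ β)⁻¹ * (y1 * u * y1⁻¹) * u ^ β := by rw [hy2]; group
        _ = u := by rw [hy1u]; group
    have hy2S : y2 ∈ S' := (hmem y2).2 ⟨mul_mem (inv_mem (pow_mem hu β)) hy1S,
      mul_inv_eq_iff_eq_mul.1 hy2u, mul_inv_eq_iff_eq_mul.1 hy2v⟩
    have hy' : y = v ^ α * (u ^ β * y2) := by rw [hy2, hy1]; group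
    rw [hy']
    exact (hxv.pow_right α).mul_right ((hxu.pow_right β).mul_right (hxc y2 hy2S))
  · have hSS : S' ≤ S := inf_le_left
    have h1 := Subgroup.card_mul_index (S'.subgroupOf S)
    rw [Nat.card_congr (Subgroup.subgroupOfEquivOfLe hSS).toEquiv] at h1
    rw [← h1, mul_comm]
    refine Nat.mul_le_mul_right _ ?_
    let f : S ⧸ S'.subgroupOf S → Subgroup.zpowers z × Subgroup.zpowers z := fun q =>
      (⟨⁅((q.out : S) : H), u⁆, E.comm _ q.out.2 u hu⟩, ⟨⁅((q.out : S) : H), v⁆, E.comm _ q.out.2 v hv⟩)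
    have hinj : Function.Injective f := by
      intro a b hab
      have e : ∀ (w : H), ⁅((a.out : S) : H), w⁆ = ⁅((b.out : S) : H), w⁆ →
          Commute (((a.out : S) : H)⁻¹ * (b.out : S)) w := fun w hw => by
        rw [commutatorElement_def, commutatorElement_def] at hw
        have h2 := mul_right_cancel hw
        set x := ((a.out : S) : H)
        set y := ((b.out : S) : H)
        calc x⁻¹ * y * w = x⁻¹ * (y * w * y⁻¹) * y := by group
          _ = w * (x⁻¹ * y) := by rw [← h2]; group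
      have h3 : (a.out : S)⁻¹ * b.out ∈ S'.subgroupOf S := Subgroup.mem_subgroupOf.2 ((hmem _).2
        ⟨mul_mem (inv_mem a.out.2) b.out.2, e u (congrArg (fun t => (t.1 : H)) hab),
          e v (congrArg (fun t => (t.2 : H)) hab)⟩)
      rw [← QuotientGroup.out_eq' a, ← QuotientGroup.out_eq' b]
      exact QuotientGroup.eq.2 h3
    have h2 := Nat.card_le_card_of_injective f hinj
    rwa [Nat.card_prod, E.card_z] at h2

end Extra

theorem three_pow_le [hp : Fact p.Prime] (hp2 : p ≠ 2) {w : ℕ} (hw : p + 1 ≤ w) :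
    p ^ 3 ≤ 2 * w ^ (p - 1) := by
  have h2 := hp.out.two_le
  have h3 : 3 ≤ p := by omega
  rcases Nat.eq_or_lt_of_le h3 with h | h
  · subst h
    have h5 : 16 ≤ w * w := Nat.mul_le_mul hw hw
    calc (3 : ℕ) ^ 3 ≤ 2 * (w * w) := by omega
      _ = 2 * w ^ (3 - 1) := by rw [← sq]
  · have h4 : 3 ≤ p - 1 := by omega
    calc p ^ 3 ≤ w ^ 3 := Nat.pow_le_pow_left (by omega) 3
      _ ≤ w ^ (p - 1) := Nat.pow_le_pow_right (by omega) (by omega)
      _ ≤ 2 * w ^ (p - 1) := Nat.le_mul_of_pos_left _ two_pos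

theorem Extra.bound [hp : Fact p.Prime] (hp2 : p ≠ 2) (hco : (Nat.card V).Coprime p) {z : H} :
    ∀ (N : ℕ) (S : Subgroup H), Nat.card S ≤ N → Extra p z S → ∀ W : AddSubgroup V, W ≠ ⊥ →
      (∀ s ∈ S, ∀ w ∈ W, s • w ∈ W) → (∀ w ∈ W, z • w = w → w = 0) →
      p * p * Nat.card S ≤ 2 * Nat.card W ^ (p - 1) := by
  classical
  intro N
  induction N with
  | zero => intro S hS; have := Nat.card_pos (α := S); omega
  | succ N ih =>
    intro S hS E W hW0 hWS hfree
    by_cases hab : ∀ x ∈ S, ∀ y ∈ S, ⁅y, x⁆ = 1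
    · have hSz : S = Subgroup.zpowers z := le_antisymm
        (fun x hx => E.center x hx fun y hy => (commutatorElement_eq_one_iff_mul_comm.1 (hab y hy x hx)))
        (Subgroup.zpowers_le.2 E.mem)
      have hW : p + 1 ≤ Nat.card W := by
        letI : MulAction (Subgroup.zpowers z) W :=
          { smul := fun t w => ⟨(t : H) • (w : V), hWS t (hSz.symm ▸ t.2) w w.2⟩
            one_smul := fun w => Subtype.ext (one_smul H (w : V))
            mul_smul := fun s t w => Subtype.ext (mul_smul (s : H) t (w : V)) }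
        have hfix : Nat.card (MulAction.fixedPoints (Subgroup.zpowers z) W) = 1 := by
          rw [Nat.card_eq_one_iff_unique]
          refine ⟨⟨fun a b => ?_⟩, ⟨⟨⟨0, W.zero_mem⟩, fun t => Subtype.ext (smul_zero (t : H))⟩⟩⟩
          suffices hone : ∀ a : MulAction.fixedPoints (Subgroup.zpowers z) W, ((a : W) : V) = 0 from
            Subtype.ext (Subtype.ext ((hone a).trans (hone b).symm))
          exact fun a => hfree _ (a : W).2 (congrArg Subtype.val (a.2 ⟨z, Subgroup.mem_zpowers z⟩))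
        have hpz : IsPGroup p (Subgroup.zpowers z) := IsPGroup.of_card (n := 1) (by rw [E.card_z, pow_one])
        have h1 := hpz.card_modEq_card_fixedPoints W
        rw [hfix] at h1
        have h2 : 1 < Nat.card W := (AddSubgroup.one_lt_card_iff_ne_bot W).2 hW0
        have h3 := Nat.le_of_dvd (by omega) ((Nat.modEq_iff_dvd' h2.le).1 h1.symm)
        omega
      rw [hSz, E.card_z]
      calc p * p * p = p ^ 3 := by ring
        _ ≤ _ := three_pow_le hp2 hW
    push Not at hab
    obtain ⟨u, hu, v, hv, huv⟩ := hab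
    obtain ⟨E', hcard⟩ := E.reduce hu hv huv
    set S' := S ⊓ Subgroup.centralizer {u, v}
    have hcz := E.comm v hv u hu
    obtain ⟨hC0, hCp⟩ := fix_split hco (u := u) (v := v) (c := ⁅v, u⁆) (by rw [commutatorElement_def]; group)
      (E.commute_z hcz hu) (E.commute_z hcz hv) (E.pow u hu) (E.pow_z hcz) W hW0
      (hWS _ (Subgroup.zpowers_le.2 E.mem hcz)) (hWS u hu) (hWS v hv) (E.free hcz huv W hfree)
    have hlt : Nat.card S' < Nat.card S := by
      refine lt_of_le_of_ne (Subgroup.card_le_of_le inf_le_left) fun e => huv ?_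
      have h1 : u ∈ S' := (Subgroup.eq_of_le_of_card_ge inf_le_left e.ge).ge hu
      exact commutatorElement_eq_one_iff_mul_comm.2
        (Subgroup.mem_centralizer_iff.1 (Subgroup.mem_inf.1 h1).2 v (by simp))
    have h1 := ih S' (by omega) E' (fix V u ⊓ W) hC0 (fun s hs w hw => ⟨by
        show u • (s • w) = s • w
        rw [smul_smul, Subgroup.mem_centralizer_iff.1 (Subgroup.mem_inf.1 hs).2 u (by simp), mul_smul, hw.1],
      hWS s (Subgroup.mem_inf.1 hs).1 w hw.2⟩) (fun w hw => hfree w hw.2)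
    set X := Nat.card (fix V u ⊓ W : AddSubgroup V) ^ (p - 1) with hX
    have hp3 : 3 ≤ p := by have := hp.out.two_le; omega
    have hX2 : p * p ≤ X := by
      have h2 : p * p * p ≤ p * p * Nat.card S' := Nat.mul_le_mul_left _ (by
        rw [← E.card_z]; exact Subgroup.card_le_of_le (Subgroup.zpowers_le.2 E'.mem))
      have h5 : p * p * 3 ≤ p * p * p := Nat.mul_le_mul_left _ hp3
      omega
    have h2 : p * p * X ≤ Nat.card W ^ (p - 1) := by
      calc p * p * X ≤ X * X := Nat.mul_le_mul_right _ hX2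
        _ = X ^ 2 := (sq X).symm
        _ ≤ X ^ p := Nat.pow_le_pow_right (lt_of_lt_of_le (by positivity) hX2) (by omega)
        _ = (Nat.card (fix V u ⊓ W : AddSubgroup V) ^ p) ^ (p - 1) := by
          rw [hX, ← pow_mul, ← pow_mul, mul_comm]
        _ ≤ _ := Nat.pow_le_pow_left hCp _
    calc p * p * Nat.card S ≤ p * p * (p * p * Nat.card S') := Nat.mul_le_mul_left _ hcard
      _ ≤ p * p * (2 * X) := Nat.mul_le_mul_left _ h1
      _ = 2 * (p * p * X) := by ring
      _ ≤ _ := Nat.mul_le_mul_left _ h2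

theorem count_absurd {s N R p : ℕ} (hp : 3 ≤ p) (hs : 2 ≤ s) (hN : s ^ p ≤ N) (hR : R ≤ 2 * s ^ (p - 1))
    (h : (p - 1) * (N - 1) ≤ (R - p) * (s - 1)) : False := by
  have h1 : s ^ p = s ^ (p - 1) * s := by rw [← pow_succ, Nat.sub_add_cancel (by omega)]
  set y := s ^ (p - 1) with hy
  have hy2 : s ≤ y := Nat.le_self_pow (by omega) s
  have h2 : (R - p) * (s - 1) ≤ (2 * y - p) * (s - 1) := Nat.mul_le_mul_right _ (by omega)
  have h3 : 2 * (y * s - 1) ≤ (p - 1) * (N - 1) := Nat.mul_le_mul (by omega) (by omega)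
  have h4 : (2 * y - p) * (s - 1) ≤ 2 * y * (s - 1) := Nat.mul_le_mul_right _ (by omega)
  have h5 : 2 * y * (s - 1) + 2 * y = 2 * (y * s) := by
    calc 2 * y * (s - 1) + 2 * y = 2 * y * (s - 1 + 1) := by ring
      _ = _ := by rw [Nat.sub_add_cancel (by omega)]; ring
  omega

theorem exists_le_card {ι : Type*} (T : Finset ι) (f : ι → ℕ) (hT : T.Nonempty) : ∃ a ∈ T, ∀ b ∈ T, f b ≤ f a :=
  T.exists_max_image f hT

/-- Some nonzero vector is fixed by no element outside `⟨z⟩`. -/
theorem Extra.exists_free [hp : Fact p.Prime] (hp2 : p ≠ 2) (hco : (Nat.card V).Coprime p) [Nontrivial V]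
    {z : H} {R : Subgroup H} (E : Extra p z R) (hfree : ∀ w : V, z • w = w → w = 0) :
    ∃ v : V, ∀ r ∈ R, r ∉ Subgroup.zpowers z → r • v ≠ v := by
  classical
  by_contra hcon
  push Not at hcon
  haveI := Fintype.ofFinite H
  haveI := Fintype.ofFinite V
  set T : Finset H := Finset.univ.filter fun r => r ∈ R ∧ r ∉ Subgroup.zpowers z with hT
  have hTne : T.Nonempty := by
    obtain ⟨v, hv⟩ := exists_ne (0 : V)
    obtain ⟨r, hr, hrz, -⟩ := hcon v
    exact ⟨r, Finset.mem_filter.2 ⟨Finset.mem_univ _, hr, hrz⟩⟩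
  obtain ⟨r0, hr0, hmax⟩ := exists_le_card T (fun r => Nat.card (fix V r)) hTne
  obtain ⟨-, hr0R, hr0z⟩ := Finset.mem_filter.1 hr0
  obtain ⟨v0, hv0, hv0c⟩ : ∃ v ∈ R, ⁅v, r0⁆ ≠ 1 := by
    by_contra h
    push Not at h
    exact hr0z (E.center r0 hr0R fun y hy => (commutatorElement_eq_one_iff_mul_comm.1 (h y hy)).symm)
  have hcz := E.comm v0 hv0 r0 hr0R
  have htop : (⊤ : AddSubgroup V) ≠ ⊥ := by simp
  obtain ⟨hC0, hCp⟩ := fix_split hco (u := r0) (v := v0) (c := ⁅v0, r0⁆) (by rw [commutatorElement_def]; group)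
      (E.commute_z hcz hr0R) (E.commute_z hcz hv0) (E.pow r0 hr0R) (E.pow_z hcz) ⊤ htop
      (fun _ _ => trivial) (fun _ _ => trivial) (fun _ _ => trivial)
      (E.free hcz hv0c ⊤ fun w _ => hfree w)
  rw [inf_top_eq] at hC0 hCp
  rw [AddSubgroup.card_top] at hCp
  obtain ⟨E', hcard⟩ := E.reduce hr0R hv0 hv0c
  have hb := Extra.bound hp2 hco _ _ le_rfl E' (fix V r0) hC0 (fun s hs w hw => by
    show r0 • (s • w) = s • w
    rw [smul_smul, Subgroup.mem_centralizer_iff.1 (Subgroup.mem_inf.1 hs).2 r0 (by simp), mul_smul, hw])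
    (fun w _ => hfree w)
  have hs2 : 2 ≤ Nat.card (fix V r0) := (AddSubgroup.one_lt_card_iff_ne_bot _).2 hC0
  refine count_absurd (by have := hp.out.two_le; omega) hs2 hCp (hcard.trans hb) ?_
  -- double counting
  have hm : ∀ a ∈ (Finset.univ : Finset V).erase 0,
      p - 1 ≤ (Finset.bipartiteAbove (fun (v : V) (r : H) => r • v = v) T a).card := by
    intro a _
    obtain ⟨r, hr, hrz, hra⟩ := hcon a
    have hr1 : r ≠ 1 := fun e => hrz (e ▸ one_mem _)
    calc p - 1 = ((Finset.range p).erase 0).card := by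
          rw [Finset.card_erase_of_mem (Finset.mem_range.2 hp.out.pos), Finset.card_range]
      _ ≤ _ := by
        refine Finset.card_le_card_of_injOn (fun k => r ^ k) (fun k hk => ?_) fun i hi j hj hij => ?_
        · simp only [Finset.coe_erase, Finset.coe_range, Set.mem_sdiff, Set.mem_Iio, Set.mem_singleton_iff,
            Finset.mem_coe, Finset.mem_erase, Finset.mem_range] at hk
          simp only [Finset.mem_coe, Finset.bipartiteAbove, Finset.mem_filter]
          refine ⟨Finset.mem_filter.2 ⟨Finset.mem_univ _, pow_mem hr k, fun h => hrz ?_⟩, pow_smul_of_fix hra k⟩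
          obtain ⟨i, hi⟩ := exists_pow_pow (E.pow r hr) (d := k)
            (fun h => by rcases hk with ⟨h1, h2⟩ <;> first | exact h1 (Nat.eq_zero_of_dvd_of_lt h h2) |
              exact h2 (Nat.eq_zero_of_dvd_of_lt h h1))
          rw [← hi]; exact pow_mem h i
        · simp only [Finset.coe_erase, Finset.coe_range, Set.mem_sdiff, Set.mem_Iio, Finset.mem_coe,
            Finset.mem_erase, Finset.mem_range] at hi hj
          have ho := orderOf_eq_prime (E.pow r hr) hr1
          exact pow_injOn_Iio_orderOf (x := r) (by simp [ho, hi]) (by simp [ho, hj]) hij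
  have hn : ∀ b ∈ T, (Finset.bipartiteBelow (fun (v : V) (r : H) => r • v = v)
      ((Finset.univ : Finset V).erase 0) b).card ≤ Nat.card (fix V r0) - 1 := by
    intro b hb
    calc _ ≤ ((Finset.univ : Finset V).filter (fun v => b • v = v) |>.erase 0).card := by
          refine Finset.card_le_card fun v hv => ?_
          simp only [Finset.bipartiteBelow, Finset.mem_filter, Finset.mem_erase] at hv ⊢
          exact ⟨hv.1.1, Finset.mem_univ _, hv.2⟩
      _ = Nat.card (fix V b) - 1 := by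
          rw [Finset.card_erase_of_mem (by simp), ← Fintype.card_subtype, ← Nat.card_eq_fintype_card]
          rfl
      _ ≤ _ := Nat.sub_le_sub_right (hmax b hb) 1
  have h := Finset.card_mul_le_card_mul (fun (v : V) (r : H) => r • v = v) hm hn
  rw [Finset.card_erase_of_mem (Finset.mem_univ _), Finset.card_univ, ← Nat.card_eq_fintype_card] at h
  have hTc : T.card = Nat.card R - p := by
    rw [← E.card_z, Nat.card_eq_fintype_card, Nat.card_eq_fintype_card, Fintype.card_subtype, Fintype.card_subtype,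
      ← Finset.card_sdiff_of_subset (fun x hx => by
        simp only [Finset.mem_filter] at hx ⊢
        exact ⟨hx.1, Subgroup.zpowers_le.2 E.mem hx.2⟩), hT]
    congr 1
    ext x
    simp
  rw [hTc, mul_comm] at h
  exact h

end Cfsg.Agent.Perm.NoFixConj
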